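import Cfsg.Agent.H876.Basic
set_option linter.all false

/-!
Subspace stabilisers in `GL ι F`.
-/

set_option autoImplicit false
open Cfsg
open scoped Matrix MatrixGroups

namespace Cfsg.Agent.H876

variable {ι : Type} [Fintype ι] [DecidableEq ι] {F : Type*} [Field F]

theorem mem_stab_iff {W : Submodule F (ι → F)} {g : GL ι F} :
    g ∈ Geo.subspaceStabilizer W ↔ ∀ v, v ∈ W ↔ (g : Matrix ι ι F) *ᵥ v ∈ W := Iff.rfl

theorem map_mulVec_eq_of_le {W : Submodule F (ι → F)} {g : GL ι F}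
    (h : ∀ x ∈ W, (g : Matrix ι ι F) *ᵥ x ∈ W) :
    W.map (Matrix.toLin' (g : Matrix ι ι F)) = W := by
  apply Submodule.eq_of_le_of_finrank_eq
  · rintro _ ⟨x, hx, rfl⟩
    exact h x hx
  · apply LinearEquiv.finrank_eq
    refine (Submodule.equivMapOfInjective _ ?_ W).symm
    intro x y hxy
    have h1 : (g : Matrix ι ι F) *ᵥ x = (g : Matrix ι ι F) *ᵥ y := hxy
    rw [← inv_mulVec_cancel g x, h1, inv_mulVec_cancel]

/-- an invertible matrix mapping `W` into `W` stabilises `W`. -/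
theorem mem_stab_of_le {W : Submodule F (ι → F)} {g : GL ι F}
    (h : ∀ x ∈ W, (g : Matrix ι ι F) *ᵥ x ∈ W) : g ∈ Geo.subspaceStabilizer W := by
  rw [mem_stab_iff]
  intro v
  refine ⟨h v, fun hv => ?_⟩
  rw [← map_mulVec_eq_of_le h] at hv
  obtain ⟨x, hx, hxv⟩ := hv
  have h1 : (g : Matrix ι ι F) *ᵥ x = (g : Matrix ι ι F) *ᵥ v := hxv
  rw [← inv_mulVec_cancel g v, ← h1, inv_mulVec_cancel]
  exact hx

/-- an element not in the stabiliser moves some vector of `W` out of `W`. -/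
theorem exists_not_mem_of_not_stab {W : Submodule F (ι → F)} {g : GL ι F}
    (h : g ∉ Geo.subspaceStabilizer W) : ∃ x ∈ W, (g : Matrix ι ι F) *ᵥ x ∉ W := by
  by_contra hcon
  push Not at hcon
  exact h (mem_stab_of_le hcon)

/-- the general pattern of a maximality proof. -/
theorem isMaximalIn_of {G H : Subgroup (GL ι F)} (hle : H ≤ G) (hne : ¬ G ≤ H)
    (h : ∀ M : Subgroup (GL ι F), H ≤ M → M ≤ G → (∃ g ∈ M, g ∉ H) → G ≤ M) :
    Geo.IsMaximalIn G H := by
  refine ⟨lt_of_le_not_ge hle hne, fun M hHM hMG => ?_⟩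
  by_cases hM : M ≤ H
  · exact Or.inl (le_antisymm hM hHM)
  · right
    refine le_antisymm hMG (h M hHM hMG ?_)
    by_contra hcon
    push Not at hcon
    exact hM hcon

end Cfsg.Agent.H876
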