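import Mathlib
import Cfsg.Agent.LieClassical.HermSiegel
import Cfsg.Agent.ClassicalGeometry.UnitTransv
import Cfsg.Agent.LieClassical.HermPerfect
set_option linter.all false

-- part: H927/FrameBase
section
/-!
# Monomial elements and torus elements of `SU_n(q)`

`IsMono g`: `g` permutes the coordinate lines. `TorIn X u w`: all elements
`x ↦ x + (c-1) h(x,u) u + (c⁻¹-1) h(x,w) w` (`c ^ (q+1) = 1`) are in `X`.
-/

set_option autoImplicit false
set_option linter.unusedSectionVars false
set_option linter.unusedVariables false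

namespace Cfsg.Agent.H927

open Cfsg Cfsg.Agent.LieClassical.HermBasic Cfsg.Agent.LieClassical.HermSiegel
open Cfsg.Agent.ClassicalGeometry.UnitTransv (rankOne rankOne_mulVec det_rankOne)

variable {F : Type*} [Field F] {n q : ℕ}

theorem herm_single_right [Fintype F] (hF : Fintype.card F = q ^ 2) (x : Fin n → F) (i : Fin n) :
    hermForm n F q x (Pi.single i 1) = x i := by
  rw [herm_def, Finset.sum_eq_single i]
  · rw [Pi.single_eq_same, one_pow, mul_one]
  · intro j _ hj
    rw [Pi.single_eq_of_ne hj, zero_pow_q hF, mul_zero]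
  · intro h
    exact absurd (Finset.mem_univ i) h

theorem herm_single_left (x : Fin n → F) (i : Fin n) :
    hermForm n F q (Pi.single i 1) x = x i ^ q := by
  rw [herm_def, Finset.sum_eq_single i]
  · rw [Pi.single_eq_same, one_mul]
  · intro j _ hj
    rw [Pi.single_eq_of_ne hj, zero_mul]
  · intro h
    exact absurd (Finset.mem_univ i) h

theorem herm_single_self [Fintype F] (hF : Fintype.card F = q ^ 2) (i : Fin n) :
    hermForm n F q (Pi.single i 1) (Pi.single i (1 : F)) = 1 := by
  rw [herm_single_right hF, Pi.single_eq_same]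

theorem herm_single_ne [Fintype F] (hF : Fintype.card F = q ^ 2) {i j : Fin n} (h : i ≠ j) :
    hermForm n F q (Pi.single i 1) (Pi.single j (1 : F)) = 0 := by
  rw [herm_single_right hF, Pi.single_eq_of_ne h.symm]

/-- the form on vectors supported on two coordinates -/
theorem herm_two {i j : Fin n} (hij : i ≠ j) {v : Fin n → F}
    (hv : ∀ l, l ≠ i → l ≠ j → v l = 0) (w : Fin n → F) :
    hermForm n F q v w = v i * w i ^ q + v j * w j ^ q := by
  rw [herm_def, Fintype.sum_eq_add i j hij]
  rintro l ⟨h1, h2⟩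
  rw [hv l h1 h2, zero_mul]

/-- `g` permutes the coordinate lines -/
def IsMono (g : SU n F q) : Prop :=
  ∀ j, ∃ (i : Fin n) (c : F), act g (Pi.single j 1) = c • Pi.single i 1

/-- all torus elements of the pair of lines of `u` and `w` are in `X` -/
def TorIn (X : Subgroup (SU n F q)) (u w : Fin n → F) : Prop :=
  ∀ c : F, c * c ^ q = 1 → ∃ g ∈ X, ∀ x, act g x =
    x + ((c - 1) * hermForm n F q x u) • u + ((c ^ q - 1) * hermForm n F q x w) • w

section

variable [Fintype F] (hF : Fintype.card F = q ^ 2)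
include hF

/-- The torus element of `u, w`. -/
theorem exists_tor {u w : Fin n → F} (hu : hermForm n F q u u = 1) (hw : hermForm n F q w w = 1)
    (huw : hermForm n F q u w = 0) {c : F} (hc : c * c ^ q = 1) :
    ∃ g : SU n F q, ∀ x, act g x =
      x + ((c - 1) * hermForm n F q x u) • u + ((c ^ q - 1) * hermForm n F q x w) • w := by
  have hwu := herm_eq_zero_swap hF huw
  set M : Matrix (Fin n) (Fin n) F := rankOne q ((c - 1) • u) u * rankOne q ((c ^ q - 1) • w) w
    with hM
  have hmul : ∀ x, Matrix.mulVec M x =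
      x + ((c - 1) * hermForm n F q x u) • u + ((c ^ q - 1) * hermForm n F q x w) • w := by
    intro x
    rw [hM, ← Matrix.mulVec_mulVec, rankOne_mulVec, rankOne_mulVec, herm_add_left, herm_smul_left,
      herm_smul_left, hwu]
    funext l
    simp only [Pi.add_apply, Pi.smul_apply, smul_eq_mul]
    ring
  have hdet : M.det = 1 := by
    rw [hM, Matrix.det_mul, det_rankOne, det_rankOne, herm_smul_left, herm_smul_left, hu, hw]
    linear_combination hc
  have hher : ∀ x y, hermForm n F q (Matrix.mulVec M x) (Matrix.mulVec M y) = hermForm n F q x y := by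
    intro x y
    rw [hmul, hmul]
    simp only [herm_add_left, herm_add_right hF, herm_smul_left, herm_smul_right, mul_pow,
      sub_pow_q hF, one_pow, pow_q_pow_q hF, hu, hw, huw, hwu]
    rw [herm_swap hF y u, herm_swap hF y w]
    linear_combination (hermForm n F q x u * hermForm n F q y u ^ q +
      hermForm n F q x w * hermForm n F q y w ^ q) * hc
  refine ⟨mkSU M hdet hher, fun x => ?_⟩
  rw [act, mat_mkSU]
  exact hmul x

theorem TorIn.map {X : Subgroup (SU n F q)} {u w : Fin n → F} (h : TorIn X u w) {g : SU n F q}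
    (hg : g ∈ X) : TorIn X (act g u) (act g w) := by
  intro c hc
  obtain ⟨t, ht, hact⟩ := h c hc
  refine ⟨g * t * g⁻¹, X.mul_mem (X.mul_mem hg ht) (X.inv_mem hg), fun x => ?_⟩
  have h1 : ∀ y, hermForm n F q (act g⁻¹ x) y = hermForm n F q x (act g y) := by
    intro y
    rw [← herm_act g, act_act_inv]
  rw [act_mul, act_mul, hact, act_add, act_add, act_smul, act_smul, act_act_inv, h1, h1]

theorem TorIn.smul {X : Subgroup (SU n F q)} {u w : Fin n → F} (h : TorIn X u w) {a b : F}
    (ha : a * a ^ q = 1) (hb : b * b ^ q = 1) : TorIn X (a • u) (b • w) := by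
  intro c hc
  obtain ⟨t, ht, hact⟩ := h c hc
  refine ⟨t, ht, fun x => ?_⟩
  rw [hact, herm_smul_right, herm_smul_right, smul_smul, smul_smul]
  congr 2
  · congr 1
    linear_combination (-(c - 1) * hermForm n F q x u) * ha
  · linear_combination (-(c ^ q - 1) * hermForm n F q x w) * hb

theorem TorIn.of_smul {X : Subgroup (SU n F q)} {u w : Fin n → F} {a b : F}
    (h : TorIn X (a • u) (b • w))
    (ha : a * a ^ q = 1) (hb : b * b ^ q = 1) : TorIn X u w := by
  have ha' : a ^ q * (a ^ q) ^ q = 1 := by rw [pow_q_pow_q hF, mul_comm]; exact ha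
  have hb' : b ^ q * (b ^ q) ^ q = 1 := by rw [pow_q_pow_q hF, mul_comm]; exact hb
  have h1 := h.smul hF ha' hb'
  rwa [smul_smul, smul_smul, mul_comm, ha, mul_comm, hb, one_smul, one_smul] at h1

/-- General monomial elements. -/
theorem exists_mono (σ : Equiv.Perm (Fin n)) (d : Fin n → F) (hd : ∀ i, d i * d i ^ q = 1)
    (hdet : ((Equiv.Perm.sign σ : ℤ) : F) * ∏ i, d i = 1) :
    ∃ g : SU n F q, IsMono g ∧ ∀ x l, act g x l = d (σ l) * x (σ l) := by
  classical
  set M : Matrix (Fin n) (Fin n) F := Equiv.Perm.permMatrix F σ * Matrix.diagonal d with hM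
  have hmul : ∀ x l, Matrix.mulVec M x l = d (σ l) * x (σ l) := by
    intro x l
    rw [hM, ← Matrix.mulVec_mulVec, Matrix.permMatrix_mulVec, Function.comp_apply,
      Matrix.mulVec_diagonal]
  have hdet' : M.det = 1 := by
    rw [hM, Matrix.det_mul, Matrix.det_permutation, Matrix.det_diagonal]
    exact_mod_cast hdet
  have hher : ∀ x y, hermForm n F q (Matrix.mulVec M x) (Matrix.mulVec M y) = hermForm n F q x y := by
    intro x y
    rw [herm_def, herm_def, ← Equiv.sum_comp σ (fun i => x i * y i ^ q)]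
    apply Finset.sum_congr rfl
    intro i _
    rw [hmul, hmul, mul_pow]
    linear_combination (x (σ i) * y (σ i) ^ q) * hd (σ i)
  have hact : ∀ x l, act (mkSU M hdet' hher : SU n F q) x l = d (σ l) * x (σ l) := by
    intro x l
    rw [act, mat_mkSU]
    exact hmul x l
  refine ⟨mkSU M hdet' hher, fun j => ⟨σ.symm j, d j, ?_⟩, hact⟩
  funext l
  rw [hact, Pi.smul_apply, smul_eq_mul]
  by_cases h : l = σ.symm j
  · subst h
    rw [Equiv.apply_symm_apply, Pi.single_eq_same, Pi.single_eq_same]
  · rw [Pi.single_eq_of_ne h, Pi.single_eq_of_ne (fun h' => h (by rw [← h', Equiv.symm_apply_apply]))]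
    ring

/-- Monomial elements with prescribed entries except at one coordinate. -/
theorem exists_mono_fix (k : Fin n) (σ : Equiv.Perm (Fin n)) (hσ : σ k = k) (d : Fin n → F)
    (hd : ∀ i, d i * d i ^ q = 1) :
    ∃ (g : SU n F q) (e : F), IsMono g ∧ e * e ^ q = 1 ∧ act g (Pi.single k 1) = e • Pi.single k 1 ∧
      (∀ x, act g x k = e * x k) ∧
      ∀ x l, l ≠ k → act g x l = d l * x (σ l) := by
  classical
  set P := ∏ i ∈ Finset.univ.erase k, d (σ.symm i) with hP
  have hPn : P * P ^ q = 1 := by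
    rw [hP, ← Finset.prod_pow, ← Finset.prod_mul_distrib]
    exact Finset.prod_eq_one (fun i _ => hd _)
  have hP0 : P ≠ 0 := by
    intro h
    rw [h, zero_mul] at hPn
    exact zero_ne_one hPn
  obtain ⟨s, hs, hs1⟩ : ∃ s : F, s = ((Equiv.Perm.sign σ : ℤ) : F) ∧ s * s ^ q = 1 := by
    refine ⟨_, rfl, ?_⟩
    rcases Int.units_eq_one_or (Equiv.Perm.sign σ) with h | h
    · rw [h]; simp
    · rw [h]
      simp only [Units.val_neg, Units.val_one, Int.cast_neg, Int.cast_one]
      rw [neg_pow_q hF, one_pow]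
      ring
  have hs0 : s ≠ 0 := by
    intro h
    rw [h, zero_mul] at hs1
    exact zero_ne_one hs1
  set d' : Fin n → F := Function.update (fun i => d (σ.symm i)) k (s * P)⁻¹ with hd'
  have hek : (s * P)⁻¹ * ((s * P)⁻¹) ^ q = 1 := by
    rw [inv_pow, ← mul_inv, mul_pow]
    have : s * P * (s ^ q * P ^ q) = 1 := by linear_combination hs1 + s * s ^ q * hPn
    rw [this, inv_one]
  obtain ⟨g, hg, hact⟩ := exists_mono hF σ d' (by
    intro i
    by_cases h : i = k
    · subst h
      rw [hd', Function.update_self]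
      exact hek
    · rw [hd', Function.update_of_ne h]
      exact hd _) (by
    rw [← hs, ← Finset.mul_prod_erase _ _ (Finset.mem_univ k)]
    have h1 : ∏ i ∈ Finset.univ.erase k, d' i = P := by
      apply Finset.prod_congr rfl
      intro i hi
      rw [hd', Function.update_of_ne (Finset.ne_of_mem_erase hi)]
    rw [h1, hd', Function.update_self]
    field_simp)
  have hact' : ∀ x, act g x k = (s * P)⁻¹ * x k := by
    intro x
    rw [hact, hσ, hd', Function.update_self]
  refine ⟨g, (s * P)⁻¹, hg, hek, ?_, hact', ?_⟩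
  · funext l
    rw [Pi.smul_apply, smul_eq_mul]
    by_cases h : l = k
    · subst h
      rw [hact', Pi.single_eq_same]
    · rw [hact, Pi.single_eq_of_ne h, Pi.single_eq_of_ne (fun h' => h (by
        apply σ.injective
        rw [h', hσ]))]
      ring
  · intro x l hl
    rw [hact, hd', Function.update_of_ne (fun h' => hl (by
        apply σ.injective
        rw [h', hσ])), Equiv.symm_apply_apply]

end

end Cfsg.Agent.H927
end

-- part: H927/FrameRefl
section
/-!
# Reflections in `e_k^⊥` coming from a subgroup of `SU_n(q)`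
-/

set_option autoImplicit false
set_option linter.unusedSectionVars false
set_option linter.unusedVariables false

namespace Cfsg.Agent.H927

open Cfsg Cfsg.Agent.LieClassical.HermBasic Cfsg.Agent.LieClassical.HermSiegel

variable {F : Type*} [Field F] {n q : ℕ}

/-- unit vectors orthogonal to `e_k` whose torus with `e_k` is in `X` -/
structure PIn (X : Subgroup (SU n F q)) (k : Fin n) (u : Fin n → F) : Prop where
  unit : hermForm n F q u u = 1
  zero : u k = 0
  tor : TorIn X u (Pi.single k 1)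

section arith

variable [Fintype F]

theorem n1_ne_zero {c : F} (hc : c * c ^ q = 1) : c ≠ 0 := by
  rintro rfl
  rw [zero_mul] at hc
  exact zero_ne_one hc

/-- Two norm-one elements with prescribed ratio of `c - 1`. -/
theorem exists_pair_ratio (hF : Fintype.card F = q ^ 2) {θ : F} (hθ : θ ^ q ≠ θ) :
    ∃ c₁ c₂ : F, c₁ * c₁ ^ q = 1 ∧ c₂ * c₂ ^ q = 1 ∧ c₁ ≠ 1 ∧ c₂ ≠ 1 ∧
      c₁ - 1 = θ * (c₂ - 1) := by
  have h0 : θ ≠ 0 := by
    rintro rfl
    exact hθ (zero_pow_q hF)
  have h0q : θ ^ q ≠ 0 := pow_ne_zero _ h0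
  have h1 : θ - 1 ≠ 0 := by
    intro h
    rw [sub_eq_zero] at h
    rw [h, one_pow] at hθ
    exact hθ rfl
  have h1q : θ ^ q - 1 ≠ 0 := by
    intro h
    rw [sub_eq_zero] at h
    have h3 := pow_q_pow_q hF θ
    rw [h, one_pow] at h3
    exact h1 (by rw [← h3, sub_self])
  have h2 : θ - θ ^ q ≠ 0 := sub_ne_zero.2 (Ne.symm hθ)
  refine ⟨(θ - 1) / (θ ^ q - 1), θ ^ q * (θ - 1) / (θ * (θ ^ q - 1)), ?_, ?_, ?_, ?_, ?_⟩
  · rw [div_pow, sub_pow_q hF, sub_pow_q hF, pow_q_pow_q hF, one_pow]
    field_simp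
  · rw [div_pow, mul_pow, mul_pow, sub_pow_q hF, sub_pow_q hF, pow_q_pow_q hF, one_pow]
    field_simp
  · intro h
    rw [div_eq_one_iff_eq h1q] at h
    exact h2 (by linear_combination h)
  · intro h
    rw [div_eq_one_iff_eq (mul_ne_zero h0 h1q)] at h
    exact h2 (by linear_combination h)
  · field_simp
    ring

end arith

variable [Fintype F] (hF : Fintype.card F = q ^ 2)
include hF

theorem PIn.map {X : Subgroup (SU n F q)} {k : Fin n} {u : Fin n → F} (h : PIn X k u)
    {g : SU n F q} (hg : g ∈ X) {e : F} (he : e * e ^ q = 1)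
    (hk : act g (Pi.single k 1) = e • Pi.single k 1) : PIn X k (act g u) := by
  refine ⟨by rw [herm_act, h.unit], ?_, ?_⟩
  · have h1 := herm_act g u (Pi.single k 1)
    rw [hk, herm_smul_right, herm_single_right hF, herm_single_right hF, h.zero] at h1
    exact (mul_eq_zero.1 h1).resolve_left (pow_ne_zero _ (n1_ne_zero he))
  · have h1 := h.tor.map hF hg
    rw [hk] at h1
    have h2 : TorIn X ((1 : F) • act g u) (e • Pi.single k 1) := by rwa [one_smul]
    exact h2.of_smul hF (by rw [one_pow, one_mul]) he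

theorem PIn.smul {X : Subgroup (SU n F q)} {k : Fin n} {u : Fin n → F} (h : PIn X k u)
    {a : F} (ha : a * a ^ q = 1) : PIn X k (a • u) := by
  refine ⟨?_, ?_, ?_⟩
  · rw [herm_smul_left, herm_smul_right, h.unit]
    linear_combination ha
  · rw [Pi.smul_apply, h.zero, smul_zero]
  · have h1 := h.tor.smul hF ha (b := 1) (by rw [one_pow, one_mul])
    rwa [one_smul] at h1

theorem PIn.refl {X : Subgroup (SU n F q)} {k : Fin n} {u f : Fin n → F} (hu : PIn X k u)
    (hf : PIn X k f) {c : F} (hc : c * c ^ q = 1) :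
    PIn X k (f + ((c - 1) * hermForm n F q f u) • u) := by
  obtain ⟨g, hg, hact⟩ := hu.tor c hc
  have h1 : act g f = f + ((c - 1) * hermForm n F q f u) • u := by
    rw [hact, herm_single_right hF, hf.zero, mul_zero, zero_smul, add_zero]
  have h2 : act g (Pi.single k 1) = c ^ q • Pi.single k 1 := by
    rw [hact, herm_single_left, hu.zero, zero_pow_q hF, mul_zero, zero_smul, add_zero,
      herm_single_self hF, mul_one, sub_smul, one_smul]
    abel
  rw [← h1]
  exact hf.map hF hg (e := c ^ q) (by rw [pow_q_pow_q hF, mul_comm]; exact hc) h2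

variable {X : Subgroup (SU n F q)} (hG : ∀ g : SU n F q, IsMono g → g ∈ X)

include hG in
theorem torIn_single {i k : Fin n} (hik : i ≠ k) :
    TorIn X (Pi.single i 1) (Pi.single k 1) := by
  intro c hc
  obtain ⟨g, hg⟩ := exists_tor hF (herm_single_self hF i) (herm_single_self hF k)
    (herm_single_ne hF hik) hc
  refine ⟨g, hG g ?_, hg⟩
  intro j
  rw [hg]
  by_cases h1 : j = i
  · subst h1
    refine ⟨j, c, ?_⟩
    rw [herm_single_self hF, herm_single_ne hF hik, mul_one, mul_zero, zero_smul, add_zero,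
      sub_smul, one_smul]
    abel
  · by_cases h2 : j = k
    · subst h2
      refine ⟨j, c ^ q, ?_⟩
      rw [herm_single_self hF, herm_single_ne hF h1, mul_one, mul_zero, zero_smul, add_zero,
        sub_smul, one_smul]
      abel
    · refine ⟨j, 1, ?_⟩
      rw [herm_single_ne hF h1, herm_single_ne hF h2, mul_zero, mul_zero, zero_smul, zero_smul,
        add_zero, add_zero, one_smul]

include hG in
theorem PIn.single {i k : Fin n} (hik : i ≠ k) : PIn X k (Pi.single i 1) :=
  ⟨herm_single_self hF i, Pi.single_eq_of_ne hik.symm _, torIn_single hF hG hik⟩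

include hG in
theorem PIn.mono {k : Fin n} {u : Fin n → F} (h : PIn X k u) (σ : Equiv.Perm (Fin n))
    (hσ : σ k = k) (d : Fin n → F) (hd : ∀ i, d i * d i ^ q = 1) :
    PIn X k (fun l => d l * u (σ l)) := by
  obtain ⟨g, e, hg, he, hk, hxk, hx⟩ := exists_mono_fix hF k σ hσ d hd
  have h1 := h.map hF (hG g hg) he hk
  have h2 : act g u = fun l => d l * u (σ l) := by
    funext l
    by_cases hl : l = k
    · subst hl
      rw [hxk, hσ, h.zero, mul_zero, mul_zero]
    · exact hx u l hl
  rwa [h2] at h1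

include hG in
/-- Reduction of the support. -/
theorem PIn.reduce {k : Fin n} {u : Fin n → F} (hu : PIn X k u) {i j : Fin n} (hij : i ≠ j)
    (hi : u i ≠ 0) (hj : u j ≠ 0) (hne : u i * u i ^ q + u j * u j ^ q ≠ 1) {c : F}
    (hc : c * c ^ q = 1) (hcc : c ^ q ≠ c) :
    ∃ f, PIn X k f ∧ f j = 0 ∧
      (∃ m : F, m ≠ 0 ∧ ∀ l, l ≠ i → l ≠ j → f l = m * u l) ∧
      (f i = 0 → (c - 1) * (c ^ q - 1) * (1 - (u i * u i ^ q + u j * u j ^ q)) = 1) := by
  have hik : i ≠ k := by
    rintro rfl
    exact hi hu.zero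
  have hjk : j ≠ k := by
    rintro rfl
    exact hj hu.zero
  have hei : PIn X k (Pi.single i 1) := PIn.single hF hG hik
  have hej : PIn X k (Pi.single j 1) := PIn.single hF hG hjk
  -- the vectors `a`, `b`
  obtain ⟨a, ha⟩ : ∃ a : Fin n → F, a = Pi.single i 1 + ((c - 1) * u i ^ q) • u := ⟨_, rfl⟩
  obtain ⟨b, hb⟩ : ∃ b : Fin n → F, b = Pi.single j 1 + ((c - 1) * u j ^ q) • u := ⟨_, rfl⟩
  have haP : PIn X k a := by
    have h1 := hu.refl hF hei hc
    rwa [herm_single_left, ← ha] at h1
  have hbP : PIn X k b := by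
    have h1 := hu.refl hF hej hc
    rwa [herm_single_left, ← hb] at h1
  have hba : hermForm n F q b a = 0 := by
    rw [ha, hb]
    simp only [herm_add_left, herm_add_right hF, herm_smul_left, herm_smul_right,
      herm_single_left, herm_single_right hF, hu.unit, mul_pow,
      sub_pow_q hF, one_pow, pow_q_pow_q hF, Pi.add_apply, Pi.smul_apply, smul_eq_mul,
      Pi.single_eq_of_ne hij]
    linear_combination (u i * u j ^ q) * hc
  -- the norms
  obtain ⟨α, hα⟩ : ∃ α, α = u i * u i ^ q := ⟨_, rfl⟩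
  obtain ⟨β, hβ⟩ : ∃ β, β = u j * u j ^ q := ⟨_, rfl⟩
  have hαq : α ^ q = α := by rw [hα, norm_pow_q hF]
  have hβq : β ^ q = β := by rw [hβ, norm_pow_q hF]
  rw [← hα, ← hβ] at hne ⊢
  have hc0 := n1_ne_zero hc
  have hc1 : c - 1 ≠ 0 := by
    intro h
    rw [sub_eq_zero] at h
    rw [h, one_pow] at hcc
    exact hcc rfl
  have hB : 1 + (c - 1) * (1 - α) ≠ 0 := by
    intro h
    have h1 : (1 + (c - 1) * (1 - α)) ^ q = 0 := by rw [h, zero_pow_q hF]
    rw [add_pow_q hF, mul_pow, sub_pow_q hF, sub_pow_q hF, one_pow, hαq] at h1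
    have h3 : (c ^ q - c) * (1 - α) = 0 := by linear_combination h1 - h
    rcases mul_eq_zero.1 h3 with h4 | h4
    · exact hcc (sub_eq_zero.1 h4)
    · rw [h4, mul_zero, add_zero] at h
      exact one_ne_zero h
  obtain ⟨θ, hθ⟩ : ∃ θ, θ = (1 + (c - 1) * β) / (1 + (c - 1) * (1 - α)) := ⟨_, rfl⟩
  have hθB : θ * (1 + (c - 1) * (1 - α)) = 1 + (c - 1) * β := by
    rw [hθ, div_mul_cancel₀ _ hB]
  have hθq : θ ^ q ≠ θ := by
    intro h
    have h1 : (θ * (1 + (c - 1) * (1 - α))) ^ q = (1 + (c - 1) * β) ^ q := by rw [hθB]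
    rw [mul_pow, h, add_pow_q hF, mul_pow, add_pow_q hF, mul_pow, sub_pow_q hF, sub_pow_q hF,
      one_pow, hαq, hβq] at h1
    have h3 : (c ^ q - c) * (θ * (1 - α) - β) = 0 := by linear_combination h1 - hθB
    rcases mul_eq_zero.1 h3 with h4 | h4
    · exact hcc (sub_eq_zero.1 h4)
    · have h5 : θ = 1 := by linear_combination hθB - (c - 1) * h4
      rw [h5] at h4
      exact hne (by linear_combination -h4)
  obtain ⟨c₁, c₂, hc₁, hc₂, hc₁1, hc₂1, hcr⟩ := exists_pair_ratio hF hθq
  -- the new vector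
  have hfP := haP.refl hF (hbP.refl hF hei hc₂) hc₁
  rw [herm_add_left, herm_smul_left, hba, mul_zero, add_zero, herm_single_left,
    herm_single_left] at hfP
  have hai : a i = 1 + (c - 1) * α := by
    rw [ha, Pi.add_apply, Pi.smul_apply, Pi.single_eq_same, smul_eq_mul, hα]
    ring
  have haj : a j = (c - 1) * (u i ^ q * u j) := by
    rw [ha, Pi.add_apply, Pi.smul_apply, Pi.single_eq_of_ne hij.symm, smul_eq_mul]
    ring
  have hbj : b j = 1 + (c - 1) * β := by
    rw [hb, Pi.add_apply, Pi.smul_apply, Pi.single_eq_same, smul_eq_mul, hβ]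
    ring
  have hbi : b i = (c - 1) * (u j ^ q * u i) := by
    rw [hb, Pi.add_apply, Pi.smul_apply, Pi.single_eq_of_ne hij, smul_eq_mul]
    ring
  have haiq : a i ^ q = 1 + (c ^ q - 1) * α := by
    rw [hai, add_pow_q hF, mul_pow, sub_pow_q hF, one_pow, hαq]
  have hbiq : b i ^ q = (c ^ q - 1) * (u j * u i ^ q) := by
    rw [hbi, mul_pow, mul_pow, sub_pow_q hF, one_pow, pow_q_pow_q hF]
  -- key identity
  have key : θ * (1 + (c ^ q - 1) * α) = c ^ q + (1 - c ^ q) * β := by
    have h1 : (c - 1) * (1 + (c ^ q - 1) * α) = (1 - c ^ q) * (1 + (c - 1) * (1 - α)) := by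
      linear_combination hc
    have h3 : (c - 1) * (θ * (1 + (c ^ q - 1) * α)) = (c - 1) * (c ^ q + (1 - c ^ q) * β) := by
      linear_combination θ * h1 + (1 - c ^ q) * hθB - hc
    exact mul_left_cancel₀ hc1 h3
  have hfl : ∀ l, (Pi.single i 1 + ((c₂ - 1) * b i ^ q) • b + ((c₁ - 1) * a i ^ q) • a :
      Fin n → F) l = (Pi.single i 1 : Fin n → F) l + (c₂ - 1) * b i ^ q * b l +
        (c₁ - 1) * a i ^ q * a l := fun l => rfl
  refine ⟨_, hfP, ?_, ⟨(c₂ - 1) * (1 - c ^ q) * u i ^ q, ?_, ?_⟩, ?_⟩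
  · rw [hfl, Pi.single_eq_of_ne hij.symm, hbiq, haiq, hbj, haj, hcr]
    linear_combination ((c₂ - 1) * (c - 1) * u i ^ q * u j) * key +
      (u i ^ q * u j * (c₂ - 1)) * hc
  · refine mul_ne_zero (mul_ne_zero (sub_ne_zero.2 hc₂1) ?_) (pow_ne_zero _ hi)
    intro h
    apply hcc
    have h1 : c ^ q = 1 := by linear_combination -h
    have h3 := pow_q_pow_q hF c
    rw [h1, one_pow] at h3
    rw [h1, h3]
  · intro l hli hlj
    have hal : a l = (c - 1) * (u i ^ q * u l) := by
      rw [ha, Pi.add_apply, Pi.smul_apply, Pi.single_eq_of_ne hli, smul_eq_mul]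
      ring
    have hbl : b l = (c - 1) * (u j ^ q * u l) := by
      rw [hb, Pi.add_apply, Pi.smul_apply, Pi.single_eq_of_ne hlj, smul_eq_mul]
      ring
    rw [hfl, Pi.single_eq_of_ne hli, hbiq, haiq, hbl, hal, hcr]
    linear_combination ((c₂ - 1) * (c - 1) * u i ^ q * u l) * key +
      ((c₂ - 1) * u i ^ q * u l) * hc -
      ((c₂ - 1) * (c - 1) * (c ^ q - 1) * u i ^ q * u l) * hβ
  · intro h
    rw [hfl, Pi.single_eq_same, hbiq, haiq, hbi, hai, hcr] at h
    -- `1 + (c₂ - 1) (c⁻¹ + (1 - c⁻¹) σ) = 0`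
    obtain ⟨σ, hσ⟩ : ∃ σ, σ = α + β := ⟨_, rfl⟩
    have hσq : σ ^ q = σ := by rw [hσ, add_pow_q hF, hαq, hβq]
    have h1 : 1 + (c₂ - 1) * (c ^ q + (1 - c ^ q) * σ) = 0 := by
      rw [hσ]
      linear_combination h - (c₂ - 1) * (1 + (c - 1) * α) * key - (c₂ - 1) * α * hc +
        (c₂ - 1) * (c ^ q - 1) * (c - 1) * β * hα +
        (c₂ - 1) * (c ^ q - 1) * (c - 1) * (u i * u i ^ q) * hβ
    have h3 : c₂ * (c ^ q + (1 - c ^ q) * σ) = (c ^ q + (1 - c ^ q) * σ) - 1 := by
      linear_combination h1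
    have h4 : c₂ ^ q * (c + (1 - c) * σ) = (c + (1 - c) * σ) - 1 := by
      have h5 := congrArg (fun x => x ^ q) h3
      simp only [mul_pow, sub_pow_q hF, add_pow_q hF, one_pow, pow_q_pow_q hF, hσq] at h5
      exact h5
    rw [← hσ]
    linear_combination (1 - σ) * hc - (c₂ ^ q * (c + (1 - c) * σ)) * h3 -
      ((c ^ q + (1 - c ^ q) * σ) - 1) * h4 +
      (c ^ q + (1 - c ^ q) * σ) * (c + (1 - c) * σ) * hc₂

end Cfsg.Agent.H927
end

-- part: H927/FrameTwo
section
/-!
# A vector of weight two
-/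

set_option autoImplicit false
set_option linter.unusedSectionVars false
set_option linter.unusedVariables false

namespace Cfsg.Agent.H927

open Cfsg Cfsg.Agent.LieClassical.HermBasic Cfsg.Agent.LieClassical.HermSiegel

variable {F : Type*} [Field F] {n q : ℕ}

/-- the support of a vector -/
noncomputable def supp (u : Fin n → F) : Finset (Fin n) :=
  @Finset.filter (Fin n) (fun i => u i ≠ 0) (Classical.decPred _) Finset.univ

theorem mem_supp {u : Fin n → F} {i : Fin n} : i ∈ supp u ↔ u i ≠ 0 := by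
  classical
  simp [supp]

variable [Fintype F] (hF : Fintype.card F = q ^ 2)
include hF

/-- A norm-one element which is not a root of a polynomial of degree at most `q`. -/
theorem exists_norm_one_not_root (P : Polynomial F) (hP : P ≠ 0) (hdeg : P.natDegree ≤ q) :
    ∃ c : F, c * c ^ q = 1 ∧ P.eval c ≠ 0 := by
  classical
  by_contra hcon
  push Not at hcon
  have h1 := card_norm_eq_one hF
  have h2 : Nat.card {x : F // x * x ^ q = 1} ≤ Nat.card P.roots.toFinset := by
    apply Nat.card_le_card_of_injective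
      (fun x : {x : F // x * x ^ q = 1} => (⟨x.1, by
        rw [Multiset.mem_toFinset, Polynomial.mem_roots hP]
        exact hcon _ x.2⟩ : P.roots.toFinset))
    intro x y hxy
    exact Subtype.ext (congrArg (fun z : P.roots.toFinset => (z : F)) hxy)
  rw [h1, Nat.card_eq_fintype_card, Fintype.card_coe] at h2
  have h3 := Multiset.toFinset_card_le P.roots
  have h4 := Polynomial.card_roots' P
  omega

theorem exists_norm_one_ne_conj : ∃ c : F, c * c ^ q = 1 ∧ c ^ q ≠ c := by
  have h2 := two_le hF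
  obtain ⟨c, hc, hne⟩ := exists_norm_one_not_root hF (Polynomial.X ^ 2 - Polynomial.C 1 : Polynomial F)
    (Polynomial.X_pow_sub_C_ne_zero (by norm_num) _) (by
      rw [Polynomial.natDegree_X_pow_sub_C]
      exact h2)
  refine ⟨c, hc, fun h => hne ?_⟩
  rw [h] at hc
  simp only [Polynomial.eval_sub, Polynomial.eval_pow, Polynomial.eval_X, Polynomial.eval_C]
  linear_combination hc

theorem exists_good_c (hq : 4 ≤ q) (δ : F) :
    ∃ c : F, c * c ^ q = 1 ∧ c ^ q ≠ c ∧ (c - 1) * (c ^ q - 1) * δ ≠ 1 := by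
  by_cases hδ : δ = 0
  · obtain ⟨c, hc, hne⟩ := exists_norm_one_ne_conj hF
    refine ⟨c, hc, hne, ?_⟩
    rw [hδ, mul_zero]
    exact zero_ne_one
  obtain ⟨c, hc, hne⟩ := exists_norm_one_not_root hF
    ((Polynomial.X ^ 2 - Polynomial.C 1) * (Polynomial.C δ * (Polynomial.C 2 * Polynomial.X -
      Polynomial.X ^ 2 - Polynomial.C 1) - Polynomial.X) : Polynomial F) (by
      intro h
      have h1 := congrArg (Polynomial.eval 0) h
      simp at h1
      exact hδ h1) (by
      refine le_trans ?_ hq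
      compute_degree)
  simp only [Polynomial.eval_mul, Polynomial.eval_sub, Polynomial.eval_pow, Polynomial.eval_X,
    Polynomial.eval_C] at hne
  refine ⟨c, hc, fun h => hne ?_, fun h => hne ?_⟩
  · rw [h] at hc
    have : c ^ 2 - 1 = 0 := by linear_combination hc
    rw [this, zero_mul]
  · have : δ * (2 * c - c ^ 2 - 1) - c = 0 := by
      linear_combination c * h - δ * (c - 1) * hc
    rw [this, mul_zero]

variable {X : Subgroup (SU n F q)} (hG : ∀ g : SU n F q, IsMono g → g ∈ X)
include hG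

/-- the reflection `-1` when `2 N(u_i) = 1` -/
theorem PIn.half {k : Fin n} {u : Fin n → F} (hu : PIn X k u) {i : Fin n}
    (h2 : 2 * (u i * u i ^ q) = 1) :
    ∃ f, PIn X k f ∧ supp f = (supp u).erase i := by
  classical
  have hui : u i ≠ 0 := by
    intro h
    rw [h, zero_mul, mul_zero] at h2
    exact zero_ne_one h2
  have h20 : (2 : F) ≠ 0 := by
    intro h
    rw [h, zero_mul] at h2
    exact zero_ne_one h2
  have hik : i ≠ k := by
    rintro rfl
    exact hui hu.zero
  have h1 := hu.refl hF (PIn.single hF hG hik) (c := -1) (by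
    rw [neg_pow_q hF, one_pow]
    ring)
  rw [herm_single_left] at h1
  refine ⟨_, h1, ?_⟩
  ext l
  rw [Finset.mem_erase, mem_supp, mem_supp, Pi.add_apply, Pi.smul_apply, smul_eq_mul]
  by_cases hl : l = i
  · subst hl
    rw [Pi.single_eq_same]
    constructor
    · intro h
      exact absurd (by linear_combination -h2) h
    · intro h
      exact absurd rfl h.1
  · rw [Pi.single_eq_of_ne hl, zero_add]
    constructor
    · intro h
      refine ⟨hl, ?_⟩
      rintro h0
      rw [h0, mul_zero] at h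
      exact h rfl
    · rintro ⟨-, h⟩
      refine mul_ne_zero (mul_ne_zero ?_ (pow_ne_zero _ hui)) h
      intro h0
      apply h20
      linear_combination -h0

/-- **A weight two vector.** -/
theorem PIn.exists_weight_two (hq : 3 ≤ q) {k : Fin n} {u : Fin n → F} (hu : PIn X k u)
    (h2 : 2 ≤ (supp u).card) : ∃ v, PIn X k v ∧ (supp v).card = 2 := by
  classical
  induction' hN : (supp u).card using Nat.strong_induction_on with N ih generalizing u
  rcases Nat.eq_or_lt_of_le h2 with h | h
  · exact ⟨u, hu, h.symm⟩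
  by_cases hhalf : ∃ m, 2 * (u m * u m ^ q) = 1
  · obtain ⟨m, hm⟩ := hhalf
    obtain ⟨f, hf, hs⟩ := hu.half hF hG hm
    have hmem : m ∈ supp u := by
      rw [mem_supp]
      intro h
      rw [h, zero_mul, mul_zero] at hm
      exact zero_ne_one hm
    have hcard : (supp f).card = (supp u).card - 1 := by
      rw [hs, Finset.card_erase_of_mem hmem]
    exact ih _ (by omega) hf (by omega) rfl
  push Not at hhalf
  -- a pair with `N(u_i) + N(u_j) ≠ 1`
  obtain ⟨i, hi, j, hj, l, hl, hij, hil, hjl⟩ := Finset.two_lt_card.1 h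
  obtain ⟨i, j, hi, hj, hij, hne⟩ : ∃ i j, i ∈ supp u ∧ j ∈ supp u ∧ i ≠ j ∧
      u i * u i ^ q + u j * u j ^ q ≠ 1 := by
    by_contra hcon
    push Not at hcon
    have e1 := hcon i j hi hj hij
    have e2 := hcon i l hi hl hil
    have e3 := hcon j l hj hl hjl
    exact hhalf i (by linear_combination e1 + e2 - e3)
  rw [mem_supp] at hi hj
  rcases Nat.lt_or_ge 3 (supp u).card with h4 | h4
  · -- weight at least four
    obtain ⟨c, hc, hcc⟩ := exists_norm_one_ne_conj hF
    obtain ⟨f, hf, hfj, ⟨m, hm, hfm⟩, -⟩ := hu.reduce hF hG hij hi hj hne hc hcc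
    have hsub : supp f ⊆ (supp u).erase j := by
      intro t ht
      rw [mem_supp] at ht
      have htj : t ≠ j := by
        rintro rfl
        exact ht hfj
      rw [Finset.mem_erase, mem_supp]
      refine ⟨htj, ?_⟩
      by_cases hti : t = i
      · rw [hti]
        exact hi
      · intro h0
        rw [hfm t hti htj, h0, mul_zero] at ht
        exact ht rfl
    have hsup : ((supp u).erase j).erase i ⊆ supp f := by
      intro t ht
      rw [Finset.mem_erase, Finset.mem_erase, mem_supp] at ht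
      rw [mem_supp, hfm t ht.1 ht.2.1]
      exact mul_ne_zero hm ht.2.2
    have c1 := Finset.card_le_card hsub
    have c2 := Finset.card_le_card hsup
    rw [Finset.card_erase_of_mem (mem_supp.2 hj)] at c1
    rw [Finset.card_erase_of_mem (by
      rw [Finset.mem_erase]
      exact ⟨hij, mem_supp.2 hi⟩), Finset.card_erase_of_mem (mem_supp.2 hj)] at c2
    exact ih _ (by omega) hf (by omega) rfl
  · -- weight three
    have h3 : (supp u).card = 3 := by omega
    obtain ⟨l, hl⟩ : ∃ l, ((supp u).erase j).erase i = {l} := by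
      rw [← Finset.card_eq_one, Finset.card_erase_of_mem (by
        rw [Finset.mem_erase]
        exact ⟨hij, mem_supp.2 hi⟩), Finset.card_erase_of_mem (mem_supp.2 hj), h3]
    have hlm : l ∈ ((supp u).erase j).erase i := by rw [hl]; exact Finset.mem_singleton_self l
    rw [Finset.mem_erase, Finset.mem_erase, mem_supp] at hlm
    have hrest : ∀ t, t ≠ i → t ≠ j → t ≠ l → u t = 0 := by
      intro t hti htj htl
      by_contra h0
      have : t ∈ ((supp u).erase j).erase i := by
        rw [Finset.mem_erase, Finset.mem_erase, mem_supp]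
        exact ⟨hti, htj, h0⟩
      rw [hl, Finset.mem_singleton] at this
      exact htl this
    have hsum : u i * u i ^ q + u j * u j ^ q + u l * u l ^ q = 1 := by
      have h5 := hu.unit
      rw [herm_def] at h5
      rw [← h5]
      have h6 : ∑ t, u t * u t ^ q = ∑ t ∈ ({i, j, l} : Finset (Fin n)), u t * u t ^ q := by
        symm
        apply Finset.sum_subset (Finset.subset_univ _)
        intro t _ ht
        simp only [Finset.mem_insert, Finset.mem_singleton, not_or] at ht
        rw [hrest t ht.1 ht.2.1 ht.2.2, zero_mul]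
      rw [h6, Finset.sum_insert (by simp [hij, hlm.1.symm]), Finset.sum_insert (by simp [hlm.2.1.symm]),
        Finset.sum_singleton]
      ring
    rcases Nat.lt_or_ge q 4 with hq4 | hq4
    · -- `q = 3`
      exfalso
      have hq3 : q = 3 := by omega
      subst hq3
      have hchar : (3 : F) = 0 := by
        have h6 : ((Fintype.card F : ℕ) : F) = 0 := by
          exact FiniteField.cast_card_eq_zero F
        rw [hF] at h6
        have h7 : (3 : F) ^ 2 = 0 := by exact_mod_cast h6
        exact pow_eq_zero_iff (two_ne_zero) |>.1 h7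
      have hone : ∀ t, u t ≠ 0 → u t * u t ^ 3 = 1 := by
        intro t ht
        have h6 := norm_pow_q hF (u t)
        have h7 := hhalf t
        obtain ⟨α, hα⟩ : ∃ α, α = u t * u t ^ 3 := ⟨_, rfl⟩
        rw [← hα] at h6 h7 ⊢
        have hα0 : α ≠ 0 := by
          rw [hα]
          exact mul_ne_zero ht (pow_ne_zero _ ht)
        have h8 : α * ((α - 1) * (2 * α - 1)) = 0 := by
          linear_combination 2 * h6 + (α - α ^ 2) * hchar
        rcases mul_eq_zero.1 h8 with h9 | h9
        · exact absurd h9 hα0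
        · rcases mul_eq_zero.1 h9 with h10 | h10
          · exact sub_eq_zero.1 h10
          · exact absurd (sub_eq_zero.1 h10) h7
      rw [hone i hi, hone j hj, hone l hlm.2.2] at hsum
      have h11 : (3 : F) = 1 := by linear_combination hsum
      rw [hchar] at h11
      exact zero_ne_one h11
    · obtain ⟨c, hc, hcc, hgood⟩ := exists_good_c hF hq4
        (1 - (u i * u i ^ q + u j * u j ^ q))
      obtain ⟨f, hf, hfj, ⟨m, hm, hfm⟩, hfi⟩ := hu.reduce hF hG hij hi hj hne hc hcc
      have hfi0 : f i ≠ 0 := fun h0 => hgood (hfi h0)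
      refine ⟨f, hf, ?_⟩
      have hs : supp f = {i, l} := by
        ext t
        rw [mem_supp, Finset.mem_insert, Finset.mem_singleton]
        constructor
        · intro ht
          by_contra hcon
          push Not at hcon
          by_cases htj : t = j
          · rw [htj] at ht
            exact ht hfj
          · rw [hfm t hcon.1 htj, hrest t hcon.1 htj hcon.2, mul_zero] at ht
            exact ht rfl
        · rintro (rfl | rfl)
          · exact hfi0
          · rw [hfm t hlm.1 hlm.2.1]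
            exact mul_ne_zero hm hlm.2.2
      rw [hs, Finset.card_pair hlm.1.symm]

end Cfsg.Agent.H927
end

-- part: H927/FrameDim2
section
/-!
# The two dimensional lemma

If the set of reflections contains a vector of weight two then all unit vectors of the coordinate plane
are images of a coordinate vector.
-/

set_option autoImplicit false
set_option linter.unusedSectionVars false
set_option linter.unusedVariables false

namespace Cfsg.Agent.H927

open Cfsg Cfsg.Agent.LieClassical.HermBasic Cfsg.Agent.LieClassical.HermSiegel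

variable {F : Type*} [Field F] {n q : ℕ}

/-- elements of `X` fixing all coordinate lines except possibly `i`, `j` -/
def KIn (X : Subgroup (SU n F q)) (i j : Fin n) (g : SU n F q) : Prop :=
  g ∈ X ∧ ∀ l, l ≠ i → l ≠ j → ∃ c : F, c * c ^ q = 1 ∧ act g (Pi.single l 1) = c • Pi.single l 1

/-- images of `e_i` under such elements -/
def OIn (X : Subgroup (SU n F q)) (i j : Fin n) (v : Fin n → F) : Prop :=
  ∃ g, KIn X i j g ∧ act g (Pi.single i 1) = v

/-- all unit vectors of the coordinate plane are images of `e_i` -/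
def PairIn (X : Subgroup (SU n F q)) (i j : Fin n) : Prop :=
  ∀ z : Fin n → F, hermForm n F q z z = 1 → (∀ l, l ≠ i → l ≠ j → z l = 0) → OIn X i j z

theorem KIn.mul {X : Subgroup (SU n F q)} {i j : Fin n} {g h : SU n F q} (hg : KIn X i j g)
    (hh : KIn X i j h) : KIn X i j (g * h) := by
  refine ⟨X.mul_mem hg.1 hh.1, fun l hi hj => ?_⟩
  obtain ⟨c, hc, h1⟩ := hh.2 l hi hj
  obtain ⟨d, hd, h2⟩ := hg.2 l hi hj
  refine ⟨c * d, ?_, ?_⟩
  · rw [mul_pow]
    linear_combination d * d ^ q * hc + hd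
  · rw [act_mul, h1, act_smul, h2, smul_smul]

variable [Fintype F] (hF : Fintype.card F = q ^ 2)
include hF

theorem KIn.inv {X : Subgroup (SU n F q)} {i j : Fin n} {g : SU n F q} (hg : KIn X i j g) :
    KIn X i j g⁻¹ := by
  refine ⟨X.inv_mem hg.1, fun l hi hj => ?_⟩
  obtain ⟨c, hc, h1⟩ := hg.2 l hi hj
  refine ⟨c ^ q, by rw [pow_q_pow_q hF, mul_comm]; exact hc, ?_⟩
  have h2 := congrArg (act g⁻¹) h1
  rw [act_inv_act, act_smul] at h2
  have h3 : act g⁻¹ (Pi.single l 1) = (c ^ q * c) • act g⁻¹ (Pi.single l 1) := by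
    rw [mul_comm, hc, one_smul]
  rw [h3, mul_smul, ← h2]

/-- coordinates outside the plane of a vector of the plane remain zero -/
theorem KIn.plane {X : Subgroup (SU n F q)} {i j : Fin n} {g : SU n F q} (hg : KIn X i j g)
    {z : Fin n → F} (hz : ∀ l, l ≠ i → l ≠ j → z l = 0) :
    ∀ l, l ≠ i → l ≠ j → act g z l = 0 := by
  intro l hi hj
  obtain ⟨c, hc, h1⟩ := hg.2 l hi hj
  have h2 := herm_act g z (Pi.single l 1)
  rw [h1, herm_smul_right, herm_single_right hF, herm_single_right hF, hz l hi hj] at h2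
  exact (mul_eq_zero.1 h2).resolve_left (pow_ne_zero _ (n1_ne_zero hc))

theorem OIn.map {X : Subgroup (SU n F q)} {i j : Fin n} {g : SU n F q} (hg : KIn X i j g)
    {v : Fin n → F} (hv : OIn X i j v) : OIn X i j (act g v) := by
  obtain ⟨h, hh, rfl⟩ := hv
  exact ⟨g * h, hg.mul hh, by rw [act_mul]⟩

theorem OIn.unit {X : Subgroup (SU n F q)} {i j : Fin n} {v : Fin n → F} (hv : OIn X i j v) :
    hermForm n F q v v = 1 := by
  obtain ⟨g, hg, rfl⟩ := hv
  rw [herm_act, herm_single_self hF]

theorem OIn.plane {X : Subgroup (SU n F q)} {i j : Fin n} {v : Fin n → F} (hv : OIn X i j v) :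
    ∀ l, l ≠ i → l ≠ j → v l = 0 := by
  obtain ⟨g, hg, rfl⟩ := hv
  exact hg.plane hF (fun l hi hj => Pi.single_eq_of_ne hi _)

theorem unit_two {i j : Fin n} (hij : i ≠ j) {v : Fin n → F} (hv : hermForm n F q v v = 1)
    (hp : ∀ l, l ≠ i → l ≠ j → v l = 0) : v i * v i ^ q + v j * v j ^ q = 1 := by
  rw [← hv, herm_two hij hp]

/-- `t ↦ ρ + Tr(t w)` takes more than `q / 2` values on the norm-one elements. -/
theorem exists_common_value {w w' ρ ρ' : F} (hw : w ≠ 0) (hw' : w' ≠ 0) (hρ : ρ ^ q = ρ)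
    (hρ' : ρ' ^ q = ρ') : ∃ t t' : F, t * t ^ q = 1 ∧ t' * t' ^ q = 1 ∧
      ρ + (t * w + (t * w) ^ q) = ρ' + (t' * w' + (t' * w') ^ q) := by
  classical
  set S : Finset F := Finset.univ.filter (fun t => t * t ^ q = 1) with hS
  have hScard : S.card = q + 1 := by
    rw [← card_norm_eq_one hF, Nat.card_eq_fintype_card, Fintype.card_subtype]
  set T : Finset F := Finset.univ.filter (fun t => t ^ q = t) with hT
  have hTcard : T.card = q := by
    have := card_fixed hF
    rw [Nat.card_eq_fintype_card, Fintype.card_subtype] at this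
    exact this
  have key : ∀ (w ρ : F), w ≠ 0 → ρ ^ q = ρ →
      (S.image (fun t => ρ + (t * w + (t * w) ^ q))) ⊆ T ∧
      q + 1 ≤ 2 * (S.image (fun t => ρ + (t * w + (t * w) ^ q))).card := by
    intro w ρ hw hρ
    constructor
    · intro x hx
      rw [Finset.mem_image] at hx
      obtain ⟨t, ht, rfl⟩ := hx
      rw [hT, Finset.mem_filter]
      refine ⟨Finset.mem_univ _, ?_⟩
      rw [add_pow_q hF, hρ, trace_pow_q hF]
    · rw [← hScard]
      apply Finset.card_le_mul_card_image
      intro a ha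
      -- the fibre consists of roots of a quadratic polynomial
      have hq2 : (Polynomial.C w * Polynomial.X ^ 2 + Polynomial.C (ρ - a) * Polynomial.X +
          Polynomial.C (w ^ q) : Polynomial F) ≠ 0 := by
        intro h0
        have h1 := Polynomial.degree_quadratic (a := w) (b := ρ - a) (c := w ^ q) hw
        rw [h0, Polynomial.degree_zero] at h1
        exact absurd h1 (by decide)
      have hsub : {x ∈ S | ρ + (x * w + (x * w) ^ q) = a} ⊆ (Polynomial.C w * Polynomial.X ^ 2 +
          Polynomial.C (ρ - a) * Polynomial.X + Polynomial.C (w ^ q) : Polynomial F).roots.toFinset := by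
        intro x hx
        rw [Finset.mem_filter, hS, Finset.mem_filter] at hx
        rw [Multiset.mem_toFinset, Polynomial.mem_roots hq2, Polynomial.IsRoot]
        simp only [Polynomial.eval_add, Polynomial.eval_mul, Polynomial.eval_C,
          Polynomial.eval_pow, Polynomial.eval_X]
        have h1 := hx.2
        rw [mul_pow] at h1
        linear_combination x * h1 - w ^ q * hx.1.2
      refine (Finset.card_le_card hsub).trans ((Multiset.toFinset_card_le _).trans
        ((Polynomial.card_roots' _).trans ?_))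
      compute_degree
  obtain ⟨h1, h2⟩ := key w ρ hw hρ
  obtain ⟨h3, h4⟩ := key w' ρ' hw' hρ'
  have h5 : ¬ Disjoint (S.image (fun t => ρ + (t * w + (t * w) ^ q)))
      (S.image (fun t => ρ' + (t * w' + (t * w') ^ q))) := by
    intro hd
    have h6 := Finset.card_le_card (Finset.union_subset h1 h3)
    rw [Finset.card_union_of_disjoint hd, hTcard] at h6
    omega
  rw [Finset.not_disjoint_iff] at h5
  obtain ⟨x, hx1, hx2⟩ := h5
  rw [Finset.mem_image] at hx1 hx2
  obtain ⟨t, ht, ht'⟩ := hx1
  obtain ⟨s, hs, hs'⟩ := hx2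
  rw [hS, Finset.mem_filter] at ht hs
  exact ⟨t, s, ht.2, hs.2, by rw [ht', hs']⟩

variable {X : Subgroup (SU n F q)} (hG : ∀ g : SU n F q, IsMono g → g ∈ X)
include hG

/-- diagonal elements -/
theorem exists_KIn_diag {i j k : Fin n} (hij : i ≠ j) (hik : i ≠ k) (hjk : j ≠ k) {a b : F}
    (ha : a * a ^ q = 1) (hb : b * b ^ q = 1) :
    ∃ g, KIn X i j g ∧ ∀ x, (∀ l, l ≠ i → l ≠ j → x l = 0) →
      act g x i = a * x i ∧ act g x j = b * x j := by
  classical
  obtain ⟨g, e, hg, he, hk, hxk, hx⟩ := exists_mono_fix hF k 1 rfl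
    (fun l => if l = i then a else if l = j then b else 1) (by
      intro l
      by_cases h1 : l = i
      · rw [if_pos h1]; exact ha
      · rw [if_neg h1]
        by_cases h2 : l = j
        · rw [if_pos h2]; exact hb
        · rw [if_neg h2, one_pow, one_mul])
  refine ⟨g, ⟨hG g hg, fun l hi hj => ?_⟩, fun x _ => ⟨?_, ?_⟩⟩
  · by_cases hlk : l = k
    · subst hlk
      exact ⟨e, he, hk⟩
    · refine ⟨1, by rw [one_pow, one_mul], ?_⟩
      funext m
      rw [one_smul]
      by_cases hmk : m = k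
      · subst hmk
        rw [hxk, Pi.single_eq_of_ne (Ne.symm hlk), mul_zero]
      · rw [hx _ m hmk, Equiv.Perm.one_apply]
        by_cases hml : m = l
        · subst hml
          rw [if_neg hi, if_neg hj, one_mul]
        · rw [Pi.single_eq_of_ne hml, mul_zero]
  · rw [hx _ i hik, if_pos rfl, Equiv.Perm.one_apply]
  · rw [hx _ j hjk, if_neg hij.symm, if_pos rfl, Equiv.Perm.one_apply]

theorem OIn.of_norm {i j k : Fin n} (hij : i ≠ j) (hik : i ≠ k) (hjk : j ≠ k) {v z : Fin n → F}
    (hv : OIn X i j v) (hz : hermForm n F q z z = 1) (hp : ∀ l, l ≠ i → l ≠ j → z l = 0)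
    (h : z i * z i ^ q = v i * v i ^ q) : OIn X i j z := by
  have h1 := unit_two hF hij (hv.unit hF) (hv.plane hF)
  have h2 := unit_two hF hij hz hp
  have h3 : z j * z j ^ q = v j * v j ^ q := by linear_combination h2 - h1 - h
  have key : ∀ x y : F, x * x ^ q = y * y ^ q → ∃ a : F, a * a ^ q = 1 ∧ x = a * y := by
    intro x y hxy
    by_cases hy : y = 0
    · refine ⟨1, by rw [one_pow, one_mul], ?_⟩
      rw [hy, zero_mul] at hxy
      rw [hy, mul_zero]
      exact (norm_eq_zero hF).1 hxy
    · refine ⟨x / y, ?_, by rw [div_mul_cancel₀ _ hy]⟩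
      rw [div_pow, div_mul_div_comm, hxy, div_self (mul_ne_zero hy (pow_ne_zero _ hy))]
  obtain ⟨a, ha, hza⟩ := key _ _ h
  obtain ⟨b, hb, hzb⟩ := key _ _ h3
  obtain ⟨g, hg, hgx⟩ := exists_KIn_diag hF hG hij hik hjk ha hb
  have h4 : act g v = z := by
    funext l
    by_cases hli : l = i
    · rw [hli, (hgx v (hv.plane hF)).1, hza]
    · by_cases hlj : l = j
      · rw [hlj, (hgx v (hv.plane hF)).2, hzb]
      · rw [hg.plane hF (hv.plane hF) l hli hlj, hp l hli hlj]
  rw [← h4]
  exact hv.map hF hg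

theorem KIn.of_PIn {i j k : Fin n} (hij : i ≠ j) (hik : i ≠ k) (hjk : j ≠ k) {u : Fin n → F}
    (hu : PIn X k u) (hp : ∀ l, l ≠ i → l ≠ j → u l = 0) {c : F} (hc : c * c ^ q = 1) :
    ∃ g, KIn X i j g ∧ ∀ x, x k = 0 → act g x = x + ((c - 1) * hermForm n F q x u) • u := by
  obtain ⟨g, hg, hgx⟩ := hu.tor c hc
  refine ⟨g, ⟨hg, fun l hli hlj => ?_⟩, fun x hx => ?_⟩
  · by_cases hlk : l = k
    · subst hlk
      refine ⟨c ^ q, by rw [pow_q_pow_q hF, mul_comm]; exact hc, ?_⟩
      rw [hgx, herm_single_left, hu.zero, zero_pow_q hF, mul_zero, zero_smul, add_zero,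
        herm_single_self hF, mul_one, sub_smul, one_smul]
      abel
    · refine ⟨1, by rw [one_pow, one_mul], ?_⟩
      rw [hgx, herm_single_left, hp l hli hlj, zero_pow_q hF, mul_zero, zero_smul, add_zero,
        herm_single_ne hF hlk, mul_zero, zero_smul, add_zero, one_smul]
  · rw [hgx, herm_single_right hF, hx, mul_zero, zero_smul, add_zero]

/-- **The two dimensional lemma.** -/
theorem pairIn_of_PIn {i j k : Fin n} (hij : i ≠ j) (hik : i ≠ k) (hjk : j ≠ k) {u : Fin n → F}
    (hu : PIn X k u) (hp : ∀ l, l ≠ i → l ≠ j → u l = 0) (hui : u i ≠ 0) (huj : u j ≠ 0) :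
    PairIn X i j := by
  classical
  have hei : OIn X i j (Pi.single i 1) := ⟨1, ⟨X.one_mem, fun l _ _ =>
    ⟨1, by rw [one_pow, one_mul], by rw [act_one, one_smul]⟩⟩, act_one _⟩
  -- a vector of weight two in the orbit
  obtain ⟨v, hv, hvi, hvj⟩ : ∃ v, OIn X i j v ∧ v i ≠ 0 ∧ v j ≠ 0 := by
    obtain ⟨c, hc, hcc⟩ := exists_norm_one_ne_conj hF
    obtain ⟨g, hg, hgx⟩ := KIn.of_PIn hF hG hij hik hjk hu hp hc
    refine ⟨_, hei.map hF hg, ?_, ?_⟩
    · rw [hgx _ (Pi.single_eq_of_ne hik.symm _), herm_single_left, Pi.add_apply, Pi.single_eq_same,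
        Pi.smul_apply, smul_eq_mul]
      intro h0
      have h1 := congrArg (fun x => x ^ q) h0
      simp only [add_pow_q hF, mul_pow, sub_pow_q hF, one_pow, pow_q_pow_q hF, zero_pow_q hF] at h1
      have h2 : (c ^ q - c) * (u i * u i ^ q) = 0 := by linear_combination h1 - h0
      rcases mul_eq_zero.1 h2 with h3 | h3
      · exact hcc (sub_eq_zero.1 h3)
      · exact mul_ne_zero hui (pow_ne_zero _ hui) h3
    · rw [hgx _ (Pi.single_eq_of_ne hik.symm _), herm_single_left, Pi.add_apply,
        Pi.single_eq_of_ne hij.symm, Pi.smul_apply, smul_eq_mul, zero_add]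
      refine mul_ne_zero (mul_ne_zero ?_ (pow_ne_zero _ hui)) huj
      intro h0
      rw [sub_eq_zero] at h0
      rw [h0, one_pow] at hcc
      exact hcc rfl
  intro z hz hzp
  -- `z` of weight one
  by_cases hzj : z j = 0
  · apply hei.of_norm hF hG hij hik hjk hz hzp
    have h1 := unit_two hF hij hz hzp
    rw [hzj, zero_mul, add_zero] at h1
    rw [h1, Pi.single_eq_same, one_pow, one_mul]
  by_cases hzi : z i = 0
  · obtain ⟨g, e, hg, he, hk, hxk, hx⟩ := exists_mono_fix hF k (Equiv.swap i j)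
      (Equiv.swap_apply_of_ne_of_ne hik.symm hjk.symm) (fun _ => (1 : F))
      (fun _ => by rw [one_pow, one_mul])
    have hK : KIn X i j g := by
      refine ⟨hG g hg, fun l hli hlj => ?_⟩
      by_cases hlk : l = k
      · subst hlk
        exact ⟨e, he, hk⟩
      · refine ⟨1, by rw [one_pow, one_mul], ?_⟩
        funext m
        rw [one_smul]
        by_cases hmk : m = k
        · subst hmk
          rw [hxk, Pi.single_eq_of_ne (Ne.symm hlk), mul_zero]
        · rw [hx _ m hmk, one_mul]
          by_cases hml : m = l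
          · subst hml
            rw [Equiv.swap_apply_of_ne_of_ne hli hlj]
          · rw [Pi.single_eq_of_ne hml, Pi.single_eq_of_ne]
            intro h
            apply hml
            have h2 := congrArg (Equiv.swap i j) h
            rwa [Equiv.swap_apply_self, Equiv.swap_apply_of_ne_of_ne hli hlj] at h2
    apply (hei.map hF hK).of_norm hF hG hij hik hjk hz hzp
    rw [hzi, hx _ i hik, Equiv.swap_apply_left, Pi.single_eq_of_ne hij.symm, mul_zero]
  -- `z` of weight two
  have hvu := unit_two hF hij (hv.unit hF) (hv.plane hF)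
  have hzu := unit_two hF hij hz hzp
  obtain ⟨t, s, ht, hs, hts⟩ := exists_common_value hF (w := z j * v j ^ q * (z i ^ q * v i))
    (w' := v j * v j ^ q * (v i ^ q * v i))
    (ρ := z i * z i ^ q * (v i * v i ^ q) + z j * z j ^ q * (v j * v j ^ q))
    (ρ' := v i * v i ^ q * (v i * v i ^ q) + v j * v j ^ q * (v j * v j ^ q))
    (mul_ne_zero (mul_ne_zero hzj (pow_ne_zero _ hvj)) (mul_ne_zero (pow_ne_zero _ hzi) hvi))
    (mul_ne_zero (mul_ne_zero hvj (pow_ne_zero _ hvj)) (mul_ne_zero (pow_ne_zero _ hvi) hvi))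
    (by rw [add_pow_q hF, mul_pow, mul_pow (z j * z j ^ q), norm_pow_q hF, norm_pow_q hF,
      norm_pow_q hF, norm_pow_q hF])
    (by rw [add_pow_q hF, mul_pow, mul_pow (v j * v j ^ q), norm_pow_q hF, norm_pow_q hF])
  obtain ⟨a, ha, hax⟩ := exists_KIn_diag hF hG hij hik hjk (a := 1) (b := t)
    (by rw [one_pow, one_mul]) ht
  obtain ⟨b, hb, hbx⟩ := exists_KIn_diag hF hG hij hik hjk (a := 1) (b := s)
    (by rw [one_pow, one_mul]) hs
  obtain ⟨g, hg, hgv⟩ := id hv
  have hat := hax z hzp
  have hbs := hbx v (hv.plane hF)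
  -- the `i`-th coordinates of `g⁻¹ z_t` and `g⁻¹ v_s`
  have hco : ∀ x : Fin n → F, act g⁻¹ x i = hermForm n F q x v := by
    intro x
    rw [← herm_single_right hF (act g⁻¹ x) i, ← herm_act g, act_act_inv, hgv]
  have hO1 : OIn X i j (act g⁻¹ (act b v)) := (hv.map hF hb).map hF (hg.inv hF)
  have hO2 : OIn X i j (act g⁻¹ (act a z)) := by
    apply hO1.of_norm hF hG hij hik hjk
    · rw [herm_act, herm_act, hz]
    · exact (hg.inv hF).plane hF (ha.plane hF hzp)
    · rw [hco, hco, herm_two hij (ha.plane hF hzp), herm_two hij (hb.plane hF (hv.plane hF)),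
        hat.1, hat.2, hbs.1, hbs.2]
      have e1 : ∀ x y v1 v2 r : F, r * r ^ q = 1 →
          (1 * x * v1 ^ q + r * y * v2 ^ q) * (1 * x * v1 ^ q + r * y * v2 ^ q) ^ q =
          (x * x ^ q * (v1 * v1 ^ q) + y * y ^ q * (v2 * v2 ^ q)) +
          (r * (y * v2 ^ q * (x ^ q * v1)) + (r * (y * v2 ^ q * (x ^ q * v1))) ^ q) := by
        intro x y v1 v2 r hr
        rw [add_pow_q hF]
        simp only [mul_pow, one_pow, pow_q_pow_q hF]
        linear_combination (y * y ^ q * (v2 * v2 ^ q)) * hr
      rw [e1 _ _ _ _ _ ht, e1 _ _ _ _ _ hs]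
      exact hts
  have hO3 : OIn X i j z := by
    have h1 := (hO2.map hF hg).map hF (ha.inv hF)
    rwa [act_act_inv, act_inv_act] at h1
  exact hO3

end Cfsg.Agent.H927
end

-- part: H927/FrameTop
section
/-!
# A subgroup containing the monomial elements and a non-monomial one fixing a coordinate line

`eq_top_of_fix`: `X ≤ SU_n(q)`, `q ≥ 3`, `n ≥ 4`, contains all monomial elements and a non-monomial
element fixing a coordinate line; then `X = ⊤`.
-/

set_option autoImplicit false
set_option linter.unusedSectionVars false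
set_option linter.unusedVariables false

namespace Cfsg.Agent.H927

open Cfsg Cfsg.Agent.LieClassical.HermBasic Cfsg.Agent.LieClassical.HermSiegel

variable {F : Type*} [Field F] [Fintype F] {n q : ℕ} (hF : Fintype.card F = q ^ 2)
include hF

theorem exists_fixed_ne_one (hq : 3 ≤ q) : ∃ l : F, l ^ q = l ∧ l ≠ 0 ∧ l ≠ 1 := by
  classical
  by_contra hcon
  push Not at hcon
  have h1 := card_fixed hF
  have h2 : Nat.card {x : F // x ^ q = x} ≤ 2 := by
    have h3 : Function.Injective (fun x : {x : F // x ^ q = x} => (⟨x.1, by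
      by_cases h0 : x.1 = 0
      · simp [h0]
      · simp [hcon x.1 x.2 h0]⟩ : ({0, 1} : Finset F))) := by
      intro x y hxy
      exact Subtype.ext (Subtype.mk.inj hxy)
    have h4 := Nat.card_le_card_of_injective _ h3
    refine h4.trans ?_
    rw [Nat.card_eq_fintype_card, Fintype.card_coe]
    exact Finset.card_le_two
  omega

variable {X : Subgroup (SU n F q)} (hG : ∀ g : SU n F q, IsMono g → g ∈ X)
include hG

/-- Transport to another pair of coordinates. -/
theorem PairIn.transport {i j i' j' : Fin n} (hij : i ≠ j) (hij' : i' ≠ j') (h : PairIn X i j) :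
    PairIn X i' j' := by
  classical
  set τ : Equiv.Perm (Fin n) := Equiv.swap i' i with hτ
  set σ : Equiv.Perm (Fin n) := Equiv.swap (τ j') j * τ with hσ
  have hτi : τ i' = i := Equiv.swap_apply_left _ _
  have hσi : σ i' = i := by
    rw [hσ, Equiv.Perm.mul_apply, hτi]
    apply Equiv.swap_apply_of_ne_of_ne _ hij
    intro h
    rw [← hτi] at h
    exact hij' (τ.injective h)
  have hσj : σ j' = j := by
    rw [hσ, Equiv.Perm.mul_apply, Equiv.swap_apply_left]
  obtain ⟨s, hs, hss⟩ : ∃ s : F, s = ((Equiv.Perm.sign σ : ℤ) : F) ∧ s * s = 1 := by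
    refine ⟨_, rfl, ?_⟩
    rcases Int.units_eq_one_or (Equiv.Perm.sign σ) with h | h
    · rw [h]; simp
    · rw [h]; simp
  have hsq : s ^ q = s := by
    rcases Int.units_eq_one_or (Equiv.Perm.sign σ) with h | h
    · rw [hs, h]; simp
    · rw [hs, h]
      simp only [Units.val_neg, Units.val_one, Int.cast_neg, Int.cast_one]
      rw [neg_pow_q hF, one_pow]
  obtain ⟨m, hm, hmx⟩ := exists_mono hF σ (Function.update (fun _ => (1 : F)) i s) (by
    intro l
    by_cases hl : l = i
    · subst hl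
      rw [Function.update_self, hsq, hss]
    · rw [Function.update_of_ne hl, one_pow, one_mul]) (by
    rw [← hs, Finset.prod_update_of_mem (Finset.mem_univ i)]
    simp [hss])
  have hmX := hG m hm
  intro z hz hzp
  -- the vector `z' = m⁻¹ z`
  obtain ⟨y, hy⟩ : ∃ y, y = act m⁻¹ z := ⟨_, rfl⟩
  have hmy : act m y = z := by rw [hy, act_act_inv]
  have hyp : ∀ l, l ≠ i → l ≠ j → y l = 0 := by
    intro l hli hlj
    have h1 := hmx y (σ.symm l)
    rw [hmy, Equiv.apply_symm_apply, Function.update_of_ne hli, one_mul] at h1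
    rw [← h1]
    apply hzp
    · intro h2
      apply hli
      rw [← hσi, ← h2, Equiv.apply_symm_apply]
    · intro h2
      apply hlj
      rw [← hσj, ← h2, Equiv.apply_symm_apply]
  have hyu : hermForm n F q y y = 1 := by rw [hy, herm_act, hz]
  obtain ⟨g, hg, hgi⟩ := h (s • y) (by
    rw [herm_smul_left, herm_smul_right, hyu, hsq, mul_one, hss]) (fun l hli hlj => by
    rw [Pi.smul_apply, hyp l hli hlj, smul_zero])
  -- images of coordinate vectors
  have hmi : act m⁻¹ (Pi.single i' 1) = s • Pi.single i 1 := by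
    have h1 : act m (s • Pi.single i 1) = Pi.single i' 1 := by
      funext l
      rw [hmx, Pi.smul_apply, smul_eq_mul]
      by_cases hl : l = i'
      · subst hl
        rw [hσi, Function.update_self, Pi.single_eq_same, Pi.single_eq_same, mul_one, hss]
      · have h2 : σ l ≠ i := fun h2 => hl (σ.injective (by rw [h2, hσi]))
        rw [Pi.single_eq_of_ne h2, Pi.single_eq_of_ne hl, mul_zero, mul_zero]
    rw [← h1, act_inv_act]
  refine ⟨m * g * m⁻¹, ⟨X.mul_mem (X.mul_mem hmX hg.1) (X.inv_mem hmX), fun l hli hlj => ?_⟩, ?_⟩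
  · have hσl : σ l ≠ i := fun h2 => hli (σ.injective (by rw [h2, hσi]))
    have hσl' : σ l ≠ j := fun h2 => hlj (σ.injective (by rw [h2, hσj]))
    have h1 : act m (Pi.single (σ l) 1) = Pi.single l 1 := by
      funext t
      rw [hmx]
      by_cases ht : t = l
      · subst ht
        rw [Function.update_of_ne hσl, Pi.single_eq_same, Pi.single_eq_same, one_mul]
      · rw [Pi.single_eq_of_ne ht, Pi.single_eq_of_ne (fun h2 => ht (σ.injective h2)), mul_zero]
    have h2 : act m⁻¹ (Pi.single l 1) = Pi.single (σ l) 1 := by rw [← h1, act_inv_act]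
    obtain ⟨c, hc, hgc⟩ := hg.2 (σ l) hσl hσl'
    refine ⟨c, hc, ?_⟩
    rw [act_mul, act_mul, h2, hgc, act_smul, h1]
  · rw [act_mul, act_mul, hmi, act_smul, hgi, smul_smul, hss, one_smul, hmy]

omit hG in
/-- the effect of a plane element on supports -/
theorem KIn.apply_ne_zero_iff {i j : Fin n} {g : SU n F q} (hg : KIn X i j g) (f : Fin n → F)
    {l : Fin n} (hli : l ≠ i) (hlj : l ≠ j) :
    ∃ c : F, c * c ^ q = 1 ∧ act g⁻¹ f l = c * f l := by
  obtain ⟨c, hc, h1⟩ := hg.2 l hli hlj
  refine ⟨c ^ q, by rw [pow_q_pow_q hF, mul_comm]; exact hc, ?_⟩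
  rw [← herm_single_right hF (act g⁻¹ f) l, ← herm_act g, act_act_inv, h1, herm_smul_right,
    herm_single_right hF]

omit hG in
/-- Case (a): two coordinates with `N(f_i) + N(f_j) ≠ 0` -/
theorem exists_reduce_pair {i j : Fin n} (hij : i ≠ j) (hP : PairIn X i j) {f : Fin n → F}
    (hfi : f i ≠ 0) (hfj : f j ≠ 0) (hne : f i * f i ^ q + f j * f j ^ q ≠ 0) :
    ∃ g, KIn X i j g ∧ supp (act g⁻¹ f) = (supp f).erase j := by
  classical
  obtain ⟨δ, hδ0, hδ⟩ := exists_norm_eq_ne hF (c := f i * f i ^ q + f j * f j ^ q) (by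
    rw [add_pow_q hF, norm_pow_q hF, norm_pow_q hF]) hne
  obtain ⟨z, hz⟩ : ∃ z : Fin n → F, z = δ⁻¹ • (f i • Pi.single i 1 + f j • Pi.single j 1) := ⟨_, rfl⟩
  have hzi : z i = δ⁻¹ * f i := by
    rw [hz]
    simp [Pi.single_eq_of_ne hij]
  have hzj : z j = δ⁻¹ * f j := by
    rw [hz]
    simp [Pi.single_eq_of_ne hij.symm]
  have hzl : ∀ l, l ≠ i → l ≠ j → z l = 0 := by
    intro l hli hlj
    rw [hz]
    simp [Pi.single_eq_of_ne hli, Pi.single_eq_of_ne hlj]
  have hδq : δ ^ q ≠ 0 := pow_ne_zero _ hδ0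
  have hzu : hermForm n F q z z = 1 := by
    rw [herm_two hij hzl, hzi, hzj, mul_pow, mul_pow, inv_pow]
    field_simp
    linear_combination -hδ
  obtain ⟨g, hg, hgi⟩ := hP z hzu hzl
  refine ⟨g, hg, ?_⟩
  have hi : act g⁻¹ f i = δ := by
    rw [← herm_single_right hF (act g⁻¹ f) i, ← herm_act g, act_act_inv, hgi,
      herm_swap hF z f, herm_two hij hzl, hzi, hzj]
    rw [add_pow_q hF, mul_pow, mul_pow, mul_pow, mul_pow, pow_q_pow_q hF, pow_q_pow_q hF, inv_pow]
    field_simp
    linear_combination -hδ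
  have hj : act g⁻¹ f j = 0 := by
    obtain ⟨y, hy⟩ : ∃ y, y = act g (Pi.single j 1) := ⟨_, rfl⟩
    have hyp : ∀ l, l ≠ i → l ≠ j → y l = 0 := by
      rw [hy]
      exact hg.plane hF (fun l _ hlj => Pi.single_eq_of_ne hlj _)
    have h1 : hermForm n F q y z = 0 := by
      rw [hy, ← hgi, herm_act, herm_single_ne hF hij.symm]
    rw [← herm_single_right hF (act g⁻¹ f) j, ← herm_act g, act_act_inv, ← hy]
    apply herm_eq_zero_swap hF
    rw [herm_two hij hyp] at h1 ⊢
    rw [hzi, hzj, mul_pow, mul_pow, inv_pow] at h1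
    have h3 : (δ ^ q)⁻¹ * (y i * f i ^ q + y j * f j ^ q) = 0 := by linear_combination h1
    exact (mul_eq_zero.1 h3).resolve_left (inv_ne_zero hδq)
  ext l
  rw [Finset.mem_erase, mem_supp, mem_supp]
  by_cases hlj : l = j
  · rw [hlj, hj]
    simp
  · by_cases hli : l = i
    · rw [hli, hi]
      simp [hij, hδ0, hfi]
    · obtain ⟨c, hc, h1⟩ := hg.apply_ne_zero_iff hF f hli hlj
      rw [h1]
      simp [n1_ne_zero hc, hlj]

/-- transitivity on unit vectors vanishing on `T` -/
theorem exists_move (hq : 3 ≤ q) (hP : ∀ i j : Fin n, i ≠ j → PairIn X i j) (T : Finset (Fin n))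
    (hT : ∀ i, ∃ j, j ≠ i ∧ j ∉ T) (f : Fin n → F) (hf : hermForm n F q f f = 1)
    (hfT : ∀ l ∈ T, f l = 0) :
    ∃ g ∈ X, (∀ l ∈ T, ∃ c : F, c * c ^ q = 1 ∧ act g (Pi.single l 1) = c • Pi.single l 1) ∧
      ∃ i, i ∉ T ∧ act g (Pi.single i 1) = f := by
  classical
  induction' hN : (supp f).card using Nat.strong_induction_on with N ih generalizing f
  -- combining an element with the induction hypothesis
  have comb : ∀ g : SU n F q, g ∈ X → (∀ l ∈ T, ∃ c : F, c * c ^ q = 1 ∧
      act g (Pi.single l 1) = c • Pi.single l 1) →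
      (supp (act g⁻¹ f)).card < N → ∃ g ∈ X, (∀ l ∈ T, ∃ c : F, c * c ^ q = 1 ∧
        act g (Pi.single l 1) = c • Pi.single l 1) ∧ ∃ i, i ∉ T ∧ act g (Pi.single i 1) = f := by
    intro g hg hgT hlt
    obtain ⟨g', hg', hT', i', hi', hgi'⟩ := ih _ hlt (act g⁻¹ f) (by rw [herm_act, hf]) (by
      intro l hl
      obtain ⟨c, hc, h1⟩ := hgT l hl
      rw [← herm_single_right hF (act g⁻¹ f) l, ← herm_act g, act_act_inv, h1, herm_smul_right,
        herm_single_right hF, hfT l hl, mul_zero]) rfl
    refine ⟨g * g', X.mul_mem hg hg', fun l hl => ?_, i', hi', ?_⟩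
    · obtain ⟨c, hc, h1⟩ := hT' l hl
      obtain ⟨d, hd, h2⟩ := hgT l hl
      refine ⟨c * d, ?_, ?_⟩
      · rw [mul_pow]
        linear_combination d * d ^ q * hc + hd
      · rw [act_mul, h1, act_smul, h2, smul_smul]
    · rw [act_mul, hgi', act_act_inv]
  have combK : ∀ (i j : Fin n) (g : SU n F q), KIn X i j g → i ∉ T → j ∉ T →
      ∀ l ∈ T, ∃ c : F, c * c ^ q = 1 ∧ act g (Pi.single l 1) = c • Pi.single l 1 := by
    intro i j g hg hiT hjT l hl
    exact hg.2 l (by rintro rfl; exact hiT hl) (by rintro rfl; exact hjT hl)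
  have hnT : ∀ i, f i ≠ 0 → i ∉ T := fun i hi hiT => hi (hfT i hiT)
  by_cases ha : ∃ i j, i ≠ j ∧ f i ≠ 0 ∧ f j ≠ 0 ∧ f i * f i ^ q + f j * f j ^ q ≠ 0
  · obtain ⟨i, j, hij, hfi, hfj, hne⟩ := ha
    obtain ⟨g, hg, hs⟩ := exists_reduce_pair hF hij (hP i j hij) hfi hfj hne
    apply comb g hg.1 (combK i j g hg (hnT i hfi) (hnT j hfj))
    rw [hs, ← hN]
    exact Finset.card_erase_lt_of_mem (mem_supp.2 hfj)
  push Not at ha
  -- the support is nonempty
  obtain ⟨i, hfi⟩ : ∃ i, f i ≠ 0 := by
    by_contra hcon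
    push Not at hcon
    rw [show f = 0 from funext hcon, herm_zero_left] at hf
    exact zero_ne_one hf
  by_cases h1 : ∃ j, j ≠ i ∧ f j ≠ 0
  swap
  · -- weight one
    push Not at h1
    obtain ⟨j, hji, hjT⟩ := hT i
    obtain ⟨g, hg, hgi⟩ := hP i j hji.symm f hf (fun l hli _ => h1 l hli)
    refine ⟨g, hg.1, fun l hl => hg.2 l (by rintro rfl; exact hnT _ hfi hl)
      (by rintro rfl; exact hjT hl), i, hnT i hfi, hgi⟩
  obtain ⟨j, hji, hfj⟩ := h1
  have hsum := ha i j hji.symm hfi hfj
  by_cases h3 : ∃ l, l ≠ i ∧ l ≠ j ∧ f l ≠ 0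
  swap
  · exfalso
    push Not at h3
    rw [herm_two hji.symm h3, hsum] at hf
    exact zero_ne_one hf
  obtain ⟨l, hli, hlj, hfl⟩ := h3
  have e2 := ha i l hli.symm hfi hfl
  have e3 := ha j l hlj.symm hfj hfl
  -- a unit vector of the plane with both coordinates nonzero
  obtain ⟨α, hαq, hα0, hα1⟩ := exists_fixed_ne_one hF hq
  obtain ⟨x, hx0, hx⟩ := exists_norm_eq_ne hF hαq hα0
  obtain ⟨y, hy0, hy⟩ := exists_norm_eq_ne hF (c := 1 - α) (by
    rw [sub_pow_q hF, one_pow, hαq]) (sub_ne_zero.2 hα1.symm)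
  obtain ⟨w, hw⟩ : ∃ w, w = f i * f j ^ q * (x ^ q * y) := ⟨_, rfl⟩
  have hw0 : w ≠ 0 := by
    rw [hw]
    exact mul_ne_zero (mul_ne_zero hfi (pow_ne_zero _ hfj)) (mul_ne_zero (pow_ne_zero _ hx0) hy0)
  obtain ⟨t, ht, hne⟩ := exists_norm_one_not_root hF
    (Polynomial.C w * Polynomial.X ^ 2 + Polynomial.C 0 * Polynomial.X + Polynomial.C (w ^ q)) (by
      intro h0
      have h1 := Polynomial.degree_quadratic (a := w) (b := 0) (c := w ^ q) hw0
      rw [h0, Polynomial.degree_zero] at h1
      exact absurd h1 (by decide)) (le_trans (by compute_degree) (two_le hF))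
  simp only [Polynomial.eval_add, Polynomial.eval_mul, Polynomial.eval_C,
    Polynomial.eval_pow, Polynomial.eval_X] at hne
  have hTr : w * t + (w * t) ^ q ≠ 0 := by
    intro h0
    apply hne
    rw [mul_pow] at h0
    linear_combination t * h0 - w ^ q * ht
  obtain ⟨z, hz⟩ : ∃ z : Fin n → F, z = x • Pi.single i 1 + (t * y) • Pi.single j 1 := ⟨_, rfl⟩
  have hzi : z i = x := by
    rw [hz]
    simp [Pi.single_eq_of_ne hji.symm]
  have hzj : z j = t * y := by
    rw [hz]
    simp [Pi.single_eq_of_ne hji]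
  have hzl : ∀ l, l ≠ i → l ≠ j → z l = 0 := by
    intro l hli hlj
    rw [hz]
    simp [Pi.single_eq_of_ne hli, Pi.single_eq_of_ne hlj]
  have hzu : hermForm n F q z z = 1 := by
    rw [herm_two hji.symm hzl, hzi, hzj, mul_pow]
    linear_combination hx + t * t ^ q * hy + (1 - α) * ht
  obtain ⟨g, hg, hgi⟩ := hP i j hji.symm z hzu hzl
  obtain ⟨f', hf'⟩ : ∃ f', f' = act g⁻¹ f := ⟨_, rfl⟩
  have hf'i : f' i = (z i * f i ^ q + z j * f j ^ q) ^ q := by
    rw [hf', ← herm_single_right hF (act g⁻¹ f) i, ← herm_act g, act_act_inv, hgi,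
      herm_swap hF z f, herm_two hji.symm hzl]
  have hsub : supp f' ⊆ supp f := by
    intro m hm
    rw [mem_supp] at hm ⊢
    by_cases hmi : m = i
    · rw [hmi]; exact hfi
    · by_cases hmj : m = j
      · rw [hmj]; exact hfj
      · obtain ⟨c, hc, h1⟩ := hg.apply_ne_zero_iff hF f hmi hmj
        rw [hf', h1] at hm
        exact right_ne_zero_of_mul hm
  by_cases hf'i0 : f' i = 0
  · apply comb g hg.1 (combK i j g hg (hnT i hfi) (hnT j hfj))
    rw [← hN, ← hf']
    apply Finset.card_lt_card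
    refine Finset.ssubset_iff_subset_ne.2 ⟨hsub, fun h => ?_⟩
    have : i ∈ supp f' := by rw [h, mem_supp]; exact hfi
    rw [mem_supp] at this
    exact this hf'i0
  · -- now `N(f'_i) + N(f'_l) ≠ 0`
    obtain ⟨c, hc, hcl⟩ := hg.apply_ne_zero_iff hF f hli hlj
    have hf'l : f' l = c * f l := by rw [hf', hcl]
    have hf'l0 : f' l ≠ 0 := by rw [hf'l]; exact mul_ne_zero (n1_ne_zero hc) hfl
    have hne' : f' i * f' i ^ q + f' l * f' l ^ q ≠ 0 := by
      have h2 : f' i * f' i ^ q = f i * f i ^ q + (w * t + (w * t) ^ q) := by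
        rw [hf'i, hzi, hzj, hw, pow_q_pow_q hF]
        simp only [mul_pow, add_pow_q hF, pow_q_pow_q hF]
        have h4 : f j * f j ^ q = f i * f i ^ q := by linear_combination e3 - e2
        linear_combination f i * f i ^ q * hx + f j * f j ^ q * (y * y ^ q) * ht +
          f j * f j ^ q * hy + (1 - α) * h4
      have h3 : f' l * f' l ^ q = f l * f l ^ q := by
        rw [hf'l, mul_pow]
        linear_combination (f l * f l ^ q) * hc
      rw [h2, h3]
      intro h0
      exact hTr (by linear_combination h0 - e2)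
    obtain ⟨g', hg', hs⟩ := exists_reduce_pair hF hli.symm (hP i l hli.symm) hf'i0 hf'l0 hne'
    have hlt : (supp (act g'⁻¹ f')).card < N := by
      rw [hs, ← hN]
      exact lt_of_lt_of_le (Finset.card_erase_lt_of_mem (mem_supp.2 hf'l0))
        (Finset.card_le_card hsub)
    apply comb (g * g') (X.mul_mem hg.1 hg'.1)
    · intro m hm
      obtain ⟨c, hc, h1⟩ := combK i l g' hg' (hnT i hfi) (hnT l hfl) m hm
      obtain ⟨d, hd, h2⟩ := combK i j g hg (hnT i hfi) (hnT j hfj) m hm
      refine ⟨c * d, ?_, ?_⟩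
      · rw [mul_pow]
        linear_combination d * d ^ q * hc + hd
      · rw [act_mul, h1, act_smul, h2, smul_smul]
    · rw [mul_inv_rev, act_mul, ← hf']
      exact hlt

/-- all orthonormal pairs have their torus in `X` -/
theorem torIn_all (hn : 3 ≤ n) (hq : 3 ≤ q) (hP : ∀ i j : Fin n, i ≠ j → PairIn X i j)
    {u w : Fin n → F} (hu : hermForm n F q u u = 1) (hw : hermForm n F q w w = 1)
    (huw : hermForm n F q u w = 0) : TorIn X u w := by
  classical
  obtain ⟨g, hg, -, i, -, hgi⟩ := exists_move hF hG hq hP ∅ (fun i => by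
    have : Nontrivial (Fin n) := Fin.nontrivial_iff_two_le.2 (by omega)
    obtain ⟨j, hj⟩ := exists_ne i
    exact ⟨j, hj, by simp⟩) u hu (by simp)
  have hwi : act g⁻¹ w i = 0 := by
    rw [← herm_single_right hF (act g⁻¹ w) i, ← herm_act g, act_act_inv, hgi]
    exact herm_eq_zero_swap hF huw
  obtain ⟨g', hg', hT', j, hj, hgj⟩ := exists_move hF hG hq hP {i} (fun a => by
    have h1 : ({i, a} : Finset (Fin n)).card < Fintype.card (Fin n) := by
      rw [Fintype.card_fin]
      exact lt_of_le_of_lt Finset.card_le_two (by omega)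
    obtain ⟨b, hb⟩ := Finset.exists_mem_notMem_of_card_lt_card (s := {i, a})
      (t := (Finset.univ : Finset (Fin n))) (by rwa [Finset.card_univ])
    simp only [Finset.mem_insert, Finset.mem_singleton, not_or] at hb
    exact ⟨b, hb.2.2, by simp [hb.2.1]⟩) (act g⁻¹ w) (by rw [herm_act, hw]) (by simpa using hwi)
  obtain ⟨c, hc, hgc⟩ := hT' i (by simp)
  have hij : i ≠ j := fun h => hj (by simp [h])
  have h1 := (torIn_single hF hG hij).map hF (X.mul_mem hg hg')
  rw [act_mul, act_mul, hgc, hgj, act_smul, hgi, act_act_inv] at h1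
  have h2 : TorIn X (c • u) ((1 : F) • w) := by rwa [one_smul]
  exact h2.of_smul hF hc (by rw [one_pow, one_mul])

theorem eq_top_of_pairIn (hn : 3 ≤ n) (hq : 3 ≤ q) (hP : ∀ i j : Fin n, i ≠ j → PairIn X i j) :
    X = ⊤ := by
  classical
  have hi0 : (⟨0, by omega⟩ : Fin n) ≠ ⟨1, by omega⟩ := by
    intro h
    exact absurd (Fin.mk.inj h) (by norm_num)
  have hi1 : (⟨2, by omega⟩ : Fin n) ≠ ⟨0, by omega⟩ := by
    intro h
    exact absurd (Fin.mk.inj h) (by norm_num)
  have hi2 : (⟨2, by omega⟩ : Fin n) ≠ ⟨1, by omega⟩ := by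
    intro h
    exact absurd (Fin.mk.inj h) (by norm_num)
  obtain ⟨c, hc, hcc⟩ := exists_norm_one_ne_conj hF
  obtain ⟨g, hg⟩ := exists_tor hF (herm_single_self hF _) (herm_single_self hF _)
    (herm_single_ne hF hi0) hc
  have hcore : g ∈ X.normalCore := by
    intro h
    have h1 := torIn_all hF hG hn hq hP (u := act h (Pi.single ⟨0, by omega⟩ 1))
      (w := act h (Pi.single ⟨1, by omega⟩ 1)) (by rw [herm_act, herm_single_self hF])
      (by rw [herm_act, herm_single_self hF]) (by rw [herm_act, herm_single_ne hF hi0])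
    obtain ⟨t, ht, hact⟩ := h1 c hc
    have h2 : h * g * h⁻¹ = t := by
      apply ext_act
      intro x
      have h3 : ∀ y, hermForm n F q (act h⁻¹ x) y = hermForm n F q x (act h y) := by
        intro y
        rw [← herm_act h, act_act_inv]
      rw [act_mul, act_mul, hg, hact, act_add, act_add, act_smul, act_smul, act_act_inv, h3, h3]
    rw [h2]
    exact ht
  have hnc : ¬ X.normalCore ≤ Subgroup.center (SU n F q) := by
    intro hle
    have h1 := hle hcore
    rw [Subgroup.mem_center_iff] at h1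
    obtain ⟨m, e, hm, he, hk, hxk, hx⟩ := exists_mono_fix hF (⟨1, by omega⟩ : Fin n)
      (Equiv.swap ⟨2, by omega⟩ ⟨0, by omega⟩)
      (Equiv.swap_apply_of_ne_of_ne hi2.symm hi0.symm) (fun _ => (1 : F))
      (fun _ => by rw [one_pow, one_mul])
    have h2 := congrArg (fun y => act y (Pi.single ⟨2, by omega⟩ 1)) (h1 m)
    simp only [act_mul] at h2
    have h3 : act g (Pi.single ⟨2, by omega⟩ 1) = Pi.single ⟨2, by omega⟩ 1 := by
      rw [hg, herm_single_ne hF hi1, herm_single_ne hF hi2]
      simp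
    have h4 : act m (Pi.single ⟨2, by omega⟩ 1) = Pi.single (⟨0, by omega⟩ : Fin n) 1 := by
      funext l
      by_cases hl : l = ⟨1, by omega⟩
      · rw [hl, hxk, Pi.single_eq_of_ne hi2.symm, Pi.single_eq_of_ne hi0.symm, mul_zero]
      · rw [hx _ l hl, one_mul]
        by_cases hl0 : l = ⟨0, by omega⟩
        · rw [hl0, Equiv.swap_apply_right, Pi.single_eq_same, Pi.single_eq_same]
        · rw [Pi.single_eq_of_ne hl0, Pi.single_eq_of_ne]
          intro h
          apply hl0
          have h5 := congrArg (Equiv.swap (⟨2, by omega⟩ : Fin n) ⟨0, by omega⟩) h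
          rwa [Equiv.swap_apply_self, Equiv.swap_apply_left] at h5
    rw [h3, h4, hg, herm_single_self hF, herm_single_ne hF hi0] at h2
    have h5 := congrFun h2 ⟨0, by omega⟩
    simp at h5
    rw [← h5, one_pow] at hcc
    exact hcc rfl
  have h3 := Cfsg.Agent.LieClassical.HermPerfect.normal_eq_top hF hn (by omega) hnc
  rw [eq_top_iff, ← h3]
  exact Subgroup.normalCore_le X

/-- **Steps 2 and 3**: a subgroup containing all monomial elements and a non-monomial element fixing
a coordinate line is everything. -/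
theorem eq_top_of_fix (hn : 3 ≤ n) (hq : 3 ≤ q) {y : SU n F q} (hy : y ∈ X) (hny : ¬ IsMono y)
    {k : Fin n} {c : F} (hk : act y (Pi.single k 1) = c • Pi.single k 1) : X = ⊤ := by
  classical
  have hc : c * c ^ q = 1 := by
    have h1 := herm_act y (Pi.single k 1) (Pi.single k 1)
    rw [hk, herm_smul_left, herm_smul_right, herm_single_self hF, mul_one] at h1
    exact h1
  -- a column of weight at least two
  obtain ⟨i, hi⟩ : ∃ i, ∀ (l : Fin n) (a : F), act y (Pi.single i 1) ≠ a • Pi.single l 1 := by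
    unfold IsMono at hny
    push Not at hny
    exact hny
  have hik : i ≠ k := by
    rintro rfl
    exact hi _ _ hk
  obtain ⟨u, hu⟩ : ∃ u, u = act y (Pi.single i 1) := ⟨_, rfl⟩
  have huP : PIn X k u := by
    rw [hu]
    exact (PIn.single hF hG hik).map hF hy hc hk
  have hw : 2 ≤ (supp u).card := by
    by_contra hlt
    have h1 : (supp u).card ≤ 1 := by omega
    rw [Finset.card_le_one] at h1
    obtain ⟨l, hl⟩ : ∃ l, u l ≠ 0 := by
      by_contra hcon
      push Not at hcon
      have h2 := huP.unit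
      rw [show u = 0 from funext hcon, herm_zero_left] at h2
      exact zero_ne_one h2
    apply hi l (u l)
    rw [← hu]
    funext m
    rw [Pi.smul_apply, smul_eq_mul]
    by_cases hm : m = l
    · subst hm
      rw [Pi.single_eq_same, mul_one]
    · rw [Pi.single_eq_of_ne hm, mul_zero]
      by_contra h0
      exact hm (h1 m (mem_supp.2 h0) l (mem_supp.2 hl))
  obtain ⟨v, hv, hv2⟩ := huP.exists_weight_two hF hG hq hw
  obtain ⟨a, b, hab, hs⟩ := Finset.card_eq_two.1 hv2
  have hva : v a ≠ 0 := mem_supp.1 (by rw [hs]; simp)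
  have hvb : v b ≠ 0 := mem_supp.1 (by rw [hs]; simp)
  have hvp : ∀ l, l ≠ a → l ≠ b → v l = 0 := by
    intro l hla hlb
    by_contra h0
    have h1 := mem_supp.2 h0
    rw [hs] at h1
    simp only [Finset.mem_insert, Finset.mem_singleton] at h1
    rcases h1 with h1 | h1
    · exact hla h1
    · exact hlb h1
  have hak : a ≠ k := by
    rintro rfl
    exact hva hv.zero
  have hbk : b ≠ k := by
    rintro rfl
    exact hvb hv.zero
  have hpair := pairIn_of_PIn hF hG hab hak hbk hv hvp hva hvb
  exact eq_top_of_pairIn hF hG hn hq (fun i' j' hij' => hpair.transport hF hG hab hij')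

end Cfsg.Agent.H927
end

-- part: H876/EvenFrame
section
/-!
# Overgroups of the monomial group of `SU_n(q)`, `q` even: a transvection of small weight

`TX X v`: `v` is isotropic and the transvection `x ↦ x + h(x,v) v` is in `X` (characteristic two).
`exists_three`: if `X` contains the monomial elements and a non-monomial one, there is `v` with `TX X v` of
weight at least three. `eq_top_even`: for `q ≥ 4` and `n ≥ 5` then `X = ⊤`.
-/

set_option autoImplicit false

namespace Cfsg.Agent.H876.EvenFrame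

open Cfsg Cfsg.Agent.LieClassical.HermBasic Cfsg.Agent.LieClassical.HermSiegel Cfsg.Agent.H927
open Cfsg.Agent.ClassicalGeometry.UnitTransv (utv act_utv)

variable {F : Type*} [Field F] {n q : ℕ}

/-- the transvection with centre `v` and parameter one is in `X`. -/
def TX (X : Subgroup (SU n F q)) (v : Fin n → F) : Prop :=
  hermForm n F q v v = 0 ∧ ∃ g ∈ X, ∀ x, act g x = x + hermForm n F q x v • v

variable {X : Subgroup (SU n F q)}

theorem TX.iso {v : Fin n → F} (h : TX X v) : hermForm n F q v v = 0 := h.1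

theorem TX.map {v : Fin n → F} (h : TX X v) {g : SU n F q} (hg : g ∈ X) : TX X (act g v) := by
  obtain ⟨hv, t, ht, hact⟩ := h
  refine ⟨by rw [herm_act, hv], g * t * g⁻¹, X.mul_mem (X.mul_mem hg ht) (X.inv_mem hg), fun x => ?_⟩
  have h1 : hermForm n F q (act g⁻¹ x) v = hermForm n F q x (act g v) := by
    rw [← herm_act g, act_act_inv]
  rw [act_mul, act_mul, hact, act_add, act_smul, act_act_inv, h1]

theorem TX.add {u v : Fin n → F} (hu : TX X u) (hv : TX X v) :
    TX X (u + hermForm n F q u v • v) := by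
  obtain ⟨-, t, ht, hact⟩ := hv
  rw [← hact]
  exact hu.map ht

theorem TX.smul {v : Fin n → F} (h : TX X v) {c : F} (hc : c * c ^ q = 1) : TX X (c • v) := by
  obtain ⟨hv, t, ht, hact⟩ := h
  refine ⟨by rw [herm_smul_left, herm_smul_right, hv, mul_zero, mul_zero], t, ht, fun x => ?_⟩
  rw [hact, herm_smul_right, smul_smul]
  congr 2
  linear_combination (-hermForm n F q x v) * hc

variable [Fintype F] (hF : Fintype.card F = q ^ 2) (h2 : (2 : F) = 0)
  (hG : ∀ g : SU n F q, IsMono g → g ∈ X)
include hF h2 hG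

omit hG in
theorem herm_pair {i j : Fin n} (hij : i ≠ j) {α : F} (hα : α * α ^ q = 1) :
    hermForm n F q (Pi.single i 1 + α • Pi.single j 1) (Pi.single i 1 + α • Pi.single j 1) = 0 := by
  rw [herm_add_left, herm_add_right hF, herm_add_right hF, herm_smul_left, herm_smul_left, herm_smul_right,
    herm_smul_right, herm_single_self hF, herm_single_self hF, herm_single_ne hF hij,
    herm_single_ne hF hij.symm]
  linear_combination hα + h2

omit hG h2 in
theorem herm_right_pair (x : Fin n → F) (i j : Fin n) (α : F) :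
    hermForm n F q x (Pi.single i 1 + α • Pi.single j 1) = x i + α ^ q * x j := by
  rw [herm_add_right hF, herm_smul_right, H927.herm_single_right hF, H927.herm_single_right hF]

theorem tx_pair {i j : Fin n} (hij : i ≠ j) {α : F} (hα : α * α ^ q = 1) :
    TX X (Pi.single i 1 + α • Pi.single j 1) := by
  have hv := herm_pair hF h2 hij hα
  have hc : (1 : F) + 1 ^ q = 0 := by rw [one_pow]; linear_combination h2
  have hact : ∀ x, act (utv hF _ 1 hv hc : SU n F q) x =
      x + hermForm n F q x (Pi.single i 1 + α • Pi.single j 1) • (Pi.single i 1 + α • Pi.single j 1) := by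
    intro x
    have h1 := act_utv hF hv hc x
    rw [one_mul] at h1
    exact h1
  refine ⟨hv, utv hF _ 1 hv hc, hG _ ?_, hact⟩
  intro k
  by_cases hki : k = i
  · subst hki
    refine ⟨j, α, ?_⟩
    rw [hact, herm_right_pair hF, Pi.single_eq_same, Pi.single_eq_of_ne hij.symm, mul_zero, add_zero, one_smul,
      ← add_assoc, ← two_smul F, h2, zero_smul, zero_add]
  by_cases hkj : k = j
  · subst hkj
    refine ⟨i, α ^ q, ?_⟩
    rw [hact, herm_right_pair hF, Pi.single_eq_same, Pi.single_eq_of_ne (Ne.symm hki), mul_one, zero_add,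
      smul_add, smul_smul, add_left_comm, mul_comm, hα, one_smul, ← two_smul F, h2, zero_smul, add_zero]
  · refine ⟨k, 1, ?_⟩
    rw [hact, herm_right_pair hF, Pi.single_eq_of_ne (Ne.symm hki), Pi.single_eq_of_ne (Ne.symm hkj), mul_zero,
      add_zero, zero_smul, add_zero, one_smul]

omit hG h2 in
/-- the weight of a non-zero isotropic vector is at least two. -/
theorem two_le_card {v : Fin n → F} (hv : hermForm n F q v v = 0) (h0 : v ≠ 0) : 2 ≤ (supp v).card := by
  by_contra hlt
  have h1 : (supp v).card ≤ 1 := by omega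
  rw [Finset.card_le_one] at h1
  obtain ⟨l, hl⟩ : ∃ l, v l ≠ 0 := by
    by_contra hcon
    push Not at hcon
    exact h0 (funext hcon)
  have h3 : v = v l • Pi.single l 1 := by
    funext m
    rw [Pi.smul_apply, smul_eq_mul]
    by_cases hm : m = l
    · subst hm
      rw [Pi.single_eq_same, mul_one]
    · rw [Pi.single_eq_of_ne hm, mul_zero]
      by_contra h4
      exact hm (h1 m (mem_supp.2 h4) l (mem_supp.2 hl))
  rw [h3, herm_smul_left, herm_smul_right, herm_single_self hF, mul_one] at hv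
  rcases mul_eq_zero.1 hv with h | h
  · exact hl h
  · exact hl ((pow_q_eq_zero hF).1 h)

omit [Fintype F] hF h2 hG in
theorem exists_notMem_of_card_lt {s : Finset (Fin n)} (h : s.card < n) : ∃ i, i ∉ s := by
  by_contra hcon
  push Not at hcon
  have h1 : (Finset.univ : Finset (Fin n)) ⊆ s := fun i _ => hcon i
  have h3 := Finset.card_le_card h1
  rw [Finset.card_univ, Fintype.card_fin] at h3
  omega

/-- If `X` is not monomial, it contains a transvection of weight at least three. -/
theorem exists_three (hn : 4 ≤ n) (hX : ∃ g ∈ X, ¬ IsMono g) : ∃ v, TX X v ∧ 3 ≤ (supp v).card := by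
  classical
  by_contra hcon
  push Not at hcon
  obtain ⟨g, hg, hng⟩ := hX
  apply hng
  -- norm-one element different from one
  obtain ⟨α, hα, hα1⟩ := exists_norm_one_ne_conj hF
  have hα1' : α ≠ 1 := by
    rintro rfl; exact hα1 (one_pow q)
  have hαq : α ^ q ≠ 1 := by
    intro h
    rw [h, mul_one] at hα
    exact hα1' hα
  -- the common support
  have key : ∀ j k : Fin n, j ≠ k → ∃ Q : Finset (Fin n), Q.card = 2 ∧
      supp (act g (Pi.single j 1)) ⊆ Q ∧ supp (act g (Pi.single k 1)) ⊆ Q := by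
    intro j k hjk
    have hv := tx_pair hF h2 hG hjk (α := 1) (by rw [one_pow, mul_one])
    have hv' := tx_pair hF h2 hG hjk hα
    rw [one_smul] at hv
    obtain ⟨v, hvd⟩ : ∃ v : Fin n → F, v = Pi.single j 1 + Pi.single k 1 := ⟨_, rfl⟩
    obtain ⟨v', hvd'⟩ : ∃ v' : Fin n → F, v' = Pi.single j 1 + α • Pi.single k 1 := ⟨_, rfl⟩
    rw [← hvd] at hv
    rw [← hvd'] at hv'
    have hvj : v j = 1 := by rw [hvd, Pi.add_apply, Pi.single_eq_same, Pi.single_eq_of_ne hjk, add_zero]
    have hvk : v k = 1 := by rw [hvd, Pi.add_apply, Pi.single_eq_same, Pi.single_eq_of_ne hjk.symm, zero_add]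
    have hhx : ∀ x, hermForm n F q x v = x j + x k := by
      intro x
      have := herm_right_pair hF x j k 1
      rw [one_smul, one_pow, one_mul] at this
      rw [hvd, this]
    have hhx' : ∀ x, hermForm n F q x v' = x j + α ^ q * x k := by
      intro x
      rw [hvd', herm_right_pair hF]
    have hvv' : hermForm n F q v v' ≠ 0 := by
      rw [hhx', hvj, hvk, mul_one]
      intro h
      apply hαq
      linear_combination h - h2
    obtain ⟨a, ha⟩ : ∃ a, a = act g v := ⟨_, rfl⟩
    obtain ⟨b, hb⟩ : ∃ b, b = act g v' := ⟨_, rfl⟩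
    have hab : hermForm n F q a b ≠ 0 := by rw [ha, hb, herm_act]; exact hvv'
    have hTa : TX X a := by rw [ha]; exact hv.map hg
    have hTb : TX X b := by rw [hb]; exact hv'.map hg
    have ha0 : a ≠ 0 := by
      rintro h; rw [h, herm_zero_left] at hab; exact hab rfl
    have hb0 : b ≠ 0 := by
      rintro h; rw [h, herm_zero_right hF] at hab; exact hab rfl
    have hca : (supp a).card = 2 := by
      have := hcon a hTa; have := two_le_card hF hTa.iso ha0; omega
    have hcb : (supp b).card = 2 := by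
      have := hcon b hTb; have := two_le_card hF hTb.iso hb0; omega
    -- the supports agree
    have hsupp : supp a = supp b := by
      by_contra hne
      obtain ⟨k', hk'b, hk'a⟩ : ∃ k', k' ∈ supp b ∧ k' ∉ supp a := by
        by_contra hc
        push Not at hc
        exact hne (Finset.eq_of_subset_of_card_le hc (by rw [hca, hcb])).symm
      obtain ⟨l, hl⟩ := exists_notMem_of_card_lt (s := supp a ∪ supp b) (n := n) (by
        have h3 : (supp a ∪ supp b).card < (supp a).card + (supp b).card := by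
          have h4 := Finset.card_union_add_card_inter (supp a) (supp b)
          have h5 : (supp a ∩ supp b).card ≠ 0 := by
            intro h0
            rw [Finset.card_eq_zero] at h0
            apply hab
            rw [herm_def]
            refine Finset.sum_eq_zero fun i _ => ?_
            by_cases hi : a i = 0
            · rw [hi, zero_mul]
            · by_cases hi' : b i = 0
              · rw [hi', zero_pow_q hF, mul_zero]
              · have : i ∈ supp a ∩ supp b := Finset.mem_inter.2 ⟨mem_supp.2 hi, mem_supp.2 hi'⟩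
                rw [h0] at this
                exact absurd this (Finset.notMem_empty i)
          omega
        omega)
      rw [Finset.mem_union, not_or] at hl
      have hkl : k' ≠ l := by rintro rfl; exact hl.2 hk'b
      have hc := tx_pair hF h2 hG hkl (α := 1) (by rw [one_pow, mul_one])
      rw [one_smul] at hc
      obtain ⟨c, hcd⟩ : ∃ c : Fin n → F, c = Pi.single k' 1 + Pi.single l 1 := ⟨_, rfl⟩
      rw [← hcd] at hc
      have hxc : ∀ x, hermForm n F q x c = x k' + x l := by
        intro x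
        have := herm_right_pair hF x k' l 1
        rw [one_smul, one_pow, one_mul] at this
        rw [hcd, this]
      have hak' : a k' = 0 := by by_contra h; exact hk'a (mem_supp.2 h)
      have hal : a l = 0 := by by_contra h; exact hl.1 (mem_supp.2 h)
      have hbl : b l = 0 := by by_contra h; exact hl.2 (mem_supp.2 h)
      have hac : hermForm n F q a c = 0 := by rw [hxc, hak', hal, add_zero]
      have hbc : hermForm n F q b c ≠ 0 := by
        rw [hxc, hbl, add_zero]; exact mem_supp.1 hk'b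
      obtain ⟨c', hcd'⟩ : ∃ c', c' = act g⁻¹ c := ⟨_, rfl⟩
      have hgc' : act g c' = c := by rw [hcd', act_act_inv]
      have hTc' : TX X c' := by rw [hcd']; exact hc.map (X.inv_mem hg)
      have h3 : hermForm n F q c' v = 0 := by
        rw [← herm_act g, hgc', ← ha]; exact herm_eq_zero_swap hF hac
      have h4 : hermForm n F q c' v' ≠ 0 := by
        rw [← herm_act g, hgc', ← hb]
        exact fun h => hbc (herm_eq_zero_swap hF h)
      rw [hhx] at h3
      rw [hhx'] at h4
      have h5 : c' k = c' j := by linear_combination h3 - c' j * h2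
      have h6 : c' j ≠ 0 := by
        intro h0
        apply h4
        rw [h5, h0, mul_zero, add_zero]
      have h7 : supp c' = {j, k} := by
        symm
        apply Finset.eq_of_subset_of_card_le
        · intro m hm
          rw [Finset.mem_insert, Finset.mem_singleton] at hm
          rw [mem_supp]
          rcases hm with rfl | rfl
          · exact h6
          · rw [h5]; exact h6
        · rw [Finset.card_pair hjk]
          have := hcon c' hTc'
          omega
      have h8 : c' = c' j • v := by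
        funext m
        rw [Pi.smul_apply, smul_eq_mul, hvd, Pi.add_apply]
        by_cases hmj : m = j
        · subst hmj
          rw [Pi.single_eq_same, Pi.single_eq_of_ne hjk, add_zero, mul_one]
        · by_cases hmk : m = k
          · subst hmk
            rw [Pi.single_eq_same, Pi.single_eq_of_ne hmj, zero_add, mul_one, h5]
          · rw [Pi.single_eq_of_ne hmj, Pi.single_eq_of_ne hmk, add_zero, mul_zero]
            by_contra h9
            have h10 := mem_supp.2 h9
            rw [h7, Finset.mem_insert, Finset.mem_singleton] at h10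
            rcases h10 with h10 | h10
            · exact hmj h10
            · exact hmk h10
      have h9 : c = c' j • a := by rw [← hgc', h8, act_smul, ha]; simp [hvj]
      have h10 : c k' = 1 := by
        rw [hcd, Pi.add_apply, Pi.single_eq_same, Pi.single_eq_of_ne hkl, add_zero]
      rw [h9, Pi.smul_apply, hak', smul_zero] at h10
      exact zero_ne_one h10
    refine ⟨supp a, hca, ?_, ?_⟩
    · intro m hm
      by_contra hma
      have h3 : a m = 0 := by by_contra h; exact hma (mem_supp.2 h)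
      have h4 : b m = 0 := by by_contra h; exact hma (hsupp ▸ mem_supp.2 h)
      have h5 : a m = act g (Pi.single j 1) m + act g (Pi.single k 1) m := by
        rw [ha, hvd, act_add, Pi.add_apply]
      have h6 : b m = act g (Pi.single j 1) m + α * act g (Pi.single k 1) m := by
        rw [hb, hvd', act_add, act_smul, Pi.add_apply, Pi.smul_apply, smul_eq_mul]
      have h7 : (α - 1) * act g (Pi.single j 1) m = 0 := by
        linear_combination α * (h3 - h5) - (h4 - h6)
      exact mem_supp.1 hm ((mul_eq_zero.1 h7).resolve_left (sub_ne_zero.2 hα1'))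
    · intro m hm
      by_contra hma
      have h3 : a m = 0 := by by_contra h; exact hma (mem_supp.2 h)
      have h4 : b m = 0 := by by_contra h; exact hma (hsupp ▸ mem_supp.2 h)
      have h5 : a m = act g (Pi.single j 1) m + act g (Pi.single k 1) m := by
        rw [ha, hvd, act_add, Pi.add_apply]
      have h6 : b m = act g (Pi.single j 1) m + α * act g (Pi.single k 1) m := by
        rw [hb, hvd', act_add, act_smul, Pi.add_apply, Pi.smul_apply, smul_eq_mul]
      have h7 : (α - 1) * act g (Pi.single k 1) m = 0 := by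
        linear_combination -(h3 - h5) + (h4 - h6)
      exact mem_supp.1 hm ((mul_eq_zero.1 h7).resolve_left (sub_ne_zero.2 hα1'))
  -- every column has weight one
  intro j
  obtain ⟨k1, hk1⟩ := exists_notMem_of_card_lt (s := {j}) (n := n) (by simp; omega)
  obtain ⟨k2, hk2⟩ := exists_notMem_of_card_lt (s := {j, k1}) (n := n)
    (lt_of_le_of_lt Finset.card_le_two (by omega))
  simp only [Finset.mem_insert, Finset.mem_singleton, not_or] at hk1 hk2
  obtain ⟨Q1, hQ1, hj1, hk1'⟩ := key j k1 (Ne.symm hk1)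
  obtain ⟨Q2, hQ2, hj2, hk2'⟩ := key j k2 (Ne.symm hk2.1)
  have hQ : Q1 ≠ Q2 := by
    rintro rfl
    obtain ⟨a, b, hab, rfl⟩ := Finset.card_eq_two.1 hQ1
    set x := act g (Pi.single j 1) with hx
    set y := act g (Pi.single k1 1) with hy
    set z := act g (Pi.single k2 1) with hz
    have hout : ∀ w : Fin n → F, supp w ⊆ {a, b} → ∀ l, l ≠ a → l ≠ b → w l = 0 := by
      intro w hw l hla hlb
      by_contra h
      have := hw (mem_supp.2 h)
      simp only [Finset.mem_insert, Finset.mem_singleton] at this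
      rcases this with h | h
      · exact hla h
      · exact hlb h
    have hyz : hermForm n F q y z = 0 := by
      rw [hy, hz, herm_act, herm_single_ne hF (Ne.symm hk2.2)]
    have hzz : hermForm n F q z z = 1 := by rw [hz, herm_act, herm_single_self hF]
    have hcross : y a * z b - y b * z a = 0 := by
      -- the combination with the cross product
      have h3 : (y a * z b - y b * z a) • x + (z a * x b - z b * x a) • y + (x a * y b - x b * y a) • z = 0 := by
        funext l
        simp only [Pi.add_apply, Pi.smul_apply, smul_eq_mul, Pi.zero_apply]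
        by_cases hla : l = a
        · subst hla; ring
        by_cases hlb : l = b
        · subst hlb; ring
        rw [hout x hj1 l hla hlb, hout y hk1' l hla hlb, hout z hk2' l hla hlb]
        ring
      have h4 : act g ((y a * z b - y b * z a) • Pi.single j 1 + (z a * x b - z b * x a) • Pi.single k1 1 +
          (x a * y b - x b * y a) • Pi.single k2 1) = 0 := by
        rw [act_add, act_add, act_smul, act_smul, act_smul]
        exact h3
      rw [act_eq_zero] at h4
      have h5 := congrFun h4 j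
      rw [Pi.add_apply, Pi.add_apply, Pi.smul_apply, Pi.smul_apply, Pi.smul_apply, Pi.single_eq_same,
        Pi.single_eq_of_ne (Ne.symm hk1), Pi.single_eq_of_ne (Ne.symm hk2.1)] at h5
      simpa using h5
    rw [herm_two hab (hout y hk1')] at hyz
    rw [herm_two hab (hout z hk2')] at hzz
    have hya : y a = 0 := by
      have : y a * (z a * z a ^ q + z b * z b ^ q) = 0 := by
        linear_combination z a * hyz + z b ^ q * hcross
      rw [hzz, mul_one] at this
      exact this
    have hyb : y b = 0 := by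
      have : y b * (z a * z a ^ q + z b * z b ^ q) = 0 := by
        linear_combination z b * hyz - z a ^ q * hcross
      rw [hzz, mul_one] at this
      exact this
    have hyy : hermForm n F q y y = 1 := by rw [hy, herm_act, herm_single_self hF]
    rw [herm_two hab (hout y hk1'), hya, hyb, zero_mul, add_zero] at hyy
    exact zero_ne_one hyy
  have hcard : (supp (act g (Pi.single j 1))).card ≤ 1 := by
    by_contra hlt
    have h3 : supp (act g (Pi.single j 1)) = Q1 :=
      Finset.eq_of_subset_of_card_le hj1 (by omega)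
    have h4 : supp (act g (Pi.single j 1)) = Q2 :=
      Finset.eq_of_subset_of_card_le hj2 (by omega)
    exact hQ (h3.symm.trans h4)
  obtain ⟨l, hl⟩ : ∃ l, act g (Pi.single j 1) l ≠ 0 := by
    by_contra hc
    push Not at hc
    have h3 : act g (Pi.single j 1) = 0 := funext hc
    rw [act_eq_zero] at h3
    have h4 := congrFun h3 j
    rw [Pi.single_eq_same] at h4
    exact one_ne_zero h4
  refine ⟨l, act g (Pi.single j 1) l, ?_⟩
  rw [Finset.card_le_one] at hcard
  funext m
  rw [Pi.smul_apply, smul_eq_mul]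
  by_cases hm : m = l
  · subst hm; rw [Pi.single_eq_same, mul_one]
  · rw [Pi.single_eq_of_ne hm, mul_zero]
    by_contra h0
    exact hm (hcard m (mem_supp.2 h0) l (mem_supp.2 hl))

omit h2 hG in
open Classical in
/-- the number of values of `t ↦ ρ + Tr(t w)` on the elements of norm one. -/
theorem card_values {w ρ : F} (hw : w ≠ 0) (hρ : ρ ^ q = ρ) :
    ((Finset.univ.filter (fun t : F => t * t ^ q = 1)).image (fun t => ρ + (t * w + (t * w) ^ q))) ⊆
        Finset.univ.filter (fun t : F => t ^ q = t) ∧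
      q + 1 ≤ 2 * ((Finset.univ.filter (fun t : F => t * t ^ q = 1)).image
        (fun t => ρ + (t * w + (t * w) ^ q))).card := by
  set S : Finset F := Finset.univ.filter (fun t => t * t ^ q = 1) with hS
  have hScard : S.card = q + 1 := by
    rw [← card_norm_eq_one hF, Nat.card_eq_fintype_card, Fintype.card_subtype]
  constructor
  · intro x hx
    rw [Finset.mem_image] at hx
    obtain ⟨t, ht, rfl⟩ := hx
    rw [Finset.mem_filter]
    refine ⟨Finset.mem_univ _, ?_⟩
    rw [add_pow_q hF, hρ, trace_pow_q hF]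
  · rw [← hScard]
    apply Finset.card_le_mul_card_image
    intro a ha
    -- the fibre consists of roots of a quadratic polynomial
    have hq2 : (Polynomial.C w * Polynomial.X ^ 2 + Polynomial.C (ρ - a) * Polynomial.X +
        Polynomial.C (w ^ q) : Polynomial F) ≠ 0 := by
      intro h0
      have h1 := Polynomial.degree_quadratic (a := w) (b := ρ - a) (c := w ^ q) hw
      rw [h0, Polynomial.degree_zero] at h1
      exact absurd h1 (by decide)
    have hsub : {x ∈ S | ρ + (x * w + (x * w) ^ q) = a} ⊆ (Polynomial.C w * Polynomial.X ^ 2 +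
        Polynomial.C (ρ - a) * Polynomial.X + Polynomial.C (w ^ q) : Polynomial F).roots.toFinset := by
      intro x hx
      rw [Finset.mem_filter, hS, Finset.mem_filter] at hx
      rw [Multiset.mem_toFinset, Polynomial.mem_roots hq2, Polynomial.IsRoot]
      simp only [Polynomial.eval_add, Polynomial.eval_mul, Polynomial.eval_C,
        Polynomial.eval_pow, Polynomial.eval_X]
      have h1 := hx.2
      rw [mul_pow] at h1
      linear_combination x * h1 - w ^ q * hx.1.2
    refine (Finset.card_le_card hsub).trans ((Multiset.toFinset_card_le _).trans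
      ((Polynomial.card_roots' _).trans ?_))
    compute_degree

omit h2 hG in
open Classical in
theorem card_fix : (Finset.univ.filter (fun t : F => t ^ q = t)).card = q := by
  have := card_fixed hF
  rw [Nat.card_eq_fintype_card, Fintype.card_subtype] at this
  exact this

omit hG in
theorem even_q : Even q := by
  have h1 : ((Fintype.card F : ℕ) : F) = 0 := FiniteField.cast_card_eq_zero F
  rw [hF] at h1
  by_contra hodd
  rw [Nat.not_even_iff_odd] at hodd
  obtain ⟨m, hm⟩ := hodd
  have h3 : ((q : ℕ) : F) = 1 := by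
    rw [hm]; push_cast; linear_combination (m : F) * h2
  push_cast at h1
  rw [h3, one_pow] at h1
  exact one_ne_zero h1

omit hG in
/-- two sums of values -/
theorem exists_values {w w' ρ ρ' : F} (hw : w ≠ 0) (hw' : w' ≠ 0) (hρ : ρ ^ q = ρ)
    (hρ' : ρ' ^ q = ρ') :
    ∃ t t' : F, t * t ^ q = 1 ∧ t' * t' ^ q = 1 ∧
      (ρ + (t * w + (t * w) ^ q)) + (ρ' + (t' * w' + (t' * w') ^ q)) = 1 ∧
      ρ' + (t' * w' + (t' * w') ^ q) ≠ 0 := by
  classical
  have hev := even_q hF h2
  obtain ⟨h1, h3⟩ := card_values hF hw hρ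
  obtain ⟨h4, h5⟩ := card_values hF hw' hρ'
  have hT := card_fix (F := F) hF
  set T : Finset F := Finset.univ.filter (fun t => t ^ q = t) with hTd
  set A : Finset F := (Finset.univ.filter (fun t : F => t * t ^ q = 1)).image
    (fun t => ρ + (t * w + (t * w) ^ q)) with hA
  set B : Finset F := (Finset.univ.filter (fun t : F => t * t ^ q = 1)).image
    (fun t => ρ' + (t * w' + (t * w') ^ q)) with hB
  set B' : Finset F := (B.erase 0).image (fun x => 1 - x) with hB'
  have hinj : Function.Injective (fun x : F => 1 - x) := by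
    intro x y h
    have h : 1 - x = 1 - y := h
    linear_combination -h
  have hB'card : B.card ≤ B'.card + 1 := by
    have h7 : B'.card = (B.erase 0).card := Finset.card_image_of_injective _ hinj
    have h6 := Finset.pred_card_le_card_erase (s := B) (a := (0 : F))
    omega
  have hB'T : B' ⊆ T := by
    intro x hx
    rw [hB', Finset.mem_image] at hx
    obtain ⟨y, hy, rfl⟩ := hx
    have := h4 (Finset.mem_of_mem_erase hy)
    rw [hTd, Finset.mem_filter] at this ⊢
    refine ⟨Finset.mem_univ _, ?_⟩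
    rw [sub_pow_q hF, one_pow, this.2]
  have hnd : ¬ Disjoint A B' := by
    intro hd
    have h6 := Finset.card_le_card (Finset.union_subset h1 hB'T)
    rw [Finset.card_union_of_disjoint hd, hT] at h6
    obtain ⟨m, hm⟩ := hev
    omega
  rw [Finset.not_disjoint_iff] at hnd
  obtain ⟨x, hx, hx'⟩ := hnd
  rw [hB', Finset.mem_image] at hx'
  obtain ⟨y, hy, rfl⟩ := hx'
  rw [Finset.mem_erase] at hy
  rw [hA, Finset.mem_image] at hx
  obtain ⟨t, ht, htx⟩ := hx
  rw [hB, Finset.mem_image] at hy
  obtain ⟨hy0, t', ht', hty⟩ := hy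
  rw [Finset.mem_filter] at ht ht'
  refine ⟨t, t', ht.2, ht'.2, ?_, ?_⟩
  · rw [htx, hty]; ring
  · rw [hty]; exact hy0

omit h2 hG in
theorem norm_add_mul (a b t : F) :
    (a + t ^ q * b) * (a + t ^ q * b) ^ q = a * a ^ q + (t * t ^ q) * (b * b ^ q) +
      (t * (a * b ^ q) + (t * (a * b ^ q)) ^ q) := by
  rw [add_pow_q hF, mul_pow, mul_pow, mul_pow, pow_q_pow_q hF, pow_q_pow_q hF]
  ring

/-- the key step: a vector of weight four. -/
theorem exists_four {v : Fin n → F} (hv : TX X v) {i j k l : Fin n} (hij : i ≠ j) (hik : i ≠ k) (hil : i ≠ l)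
    (hjk : j ≠ k) (hjl : j ≠ l) (hkl : k ≠ l) (hi : v i ≠ 0) (hj : v j ≠ 0) (hk : v k ≠ 0) (hl : v l ≠ 0)
    (hne : v i * v i ^ q ≠ v j * v j ^ q) :
    ∃ w, TX X w ∧ supp w = {i, j, k, l} := by
  classical
  obtain ⟨t, t', ht, ht', hsum, hne'⟩ := exists_values hF h2 (w := v i * v j ^ q) (w' := v k * v l ^ q)
    (ρ := v i * v i ^ q + v j * v j ^ q) (ρ' := v k * v k ^ q + v l * v l ^ q)
    (mul_ne_zero hi (pow_ne_zero _ hj)) (mul_ne_zero hk (pow_ne_zero _ hl))
    (by rw [add_pow_q hF, norm_pow_q hF, norm_pow_q hF])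
    (by rw [add_pow_q hF, norm_pow_q hF, norm_pow_q hF])
  have hlam : v i * v i ^ q + v j * v j ^ q + (t * (v i * v j ^ q) + (t * (v i * v j ^ q)) ^ q) =
      (v i + t ^ q * v j) * (v i + t ^ q * v j) ^ q := by
    rw [norm_add_mul hF, ht, one_mul]
  have hlam' : v k * v k ^ q + v l * v l ^ q + (t' * (v k * v l ^ q) + (t' * (v k * v l ^ q)) ^ q) =
      (v k + t' ^ q * v l) * (v k + t' ^ q * v l) ^ q := by
    rw [norm_add_mul hF, ht', one_mul]
  rw [hlam, hlam'] at hsum
  rw [hlam'] at hne'
  obtain ⟨lam, hlamd⟩ : ∃ lam, lam = v i + t ^ q * v j := ⟨_, rfl⟩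
  obtain ⟨lam', hlamd'⟩ : ∃ lam', lam' = v k + t' ^ q * v l := ⟨_, rfl⟩
  rw [← hlamd, ← hlamd'] at hsum
  rw [← hlamd'] at hne'
  have hl'0 : lam' ≠ 0 := left_ne_zero_of_mul hne'
  have hl0 : lam ≠ 0 := by
    rintro h0
    have h3 : v i = -(t ^ q * v j) := by rw [hlamd] at h0; linear_combination h0
    apply hne
    rw [h3, neg_pow_q hF, mul_pow, pow_q_pow_q hF]
    linear_combination (v j * v j ^ q) * ht
  have ht0 : t ≠ 0 := n1_ne_zero ht
  have ht0' : t' ≠ 0 := n1_ne_zero ht'
  have hu := tx_pair hF h2 hG hij ht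
  have hu' := tx_pair hF h2 hG hkl ht'
  obtain ⟨u, hud⟩ : ∃ u : Fin n → F, u = Pi.single i 1 + t • Pi.single j 1 := ⟨_, rfl⟩
  obtain ⟨u', hud'⟩ : ∃ u' : Fin n → F, u' = Pi.single k 1 + t' • Pi.single l 1 := ⟨_, rfl⟩
  rw [← hud] at hu
  rw [← hud'] at hu'
  have hhu : ∀ x, hermForm n F q x u = x i + t ^ q * x j := fun x => by rw [hud, herm_right_pair hF]
  have hhu' : ∀ x, hermForm n F q x u' = x k + t' ^ q * x l := fun x => by rw [hud', herm_right_pair hF]
  have huk : u k = 0 := by
    rw [hud]; simp [Pi.single_eq_of_ne hik.symm, Pi.single_eq_of_ne hjk.symm]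
  have hul : u l = 0 := by
    rw [hud]; simp [Pi.single_eq_of_ne hil.symm, Pi.single_eq_of_ne hjl.symm]
  have h1 := hv.add hu
  have h3 := h1.add hu'
  have e1 : hermForm n F q v u = lam := by rw [hhu, hlamd]
  have e2 : hermForm n F q (v + lam • u) u' = lam' := by
    rw [herm_add_left, herm_smul_left, hhu' u, huk, hul, hhu', hlamd']; ring
  rw [e1, e2] at h3
  rw [e1] at h1
  have e3 : hermForm n F q u v = lam ^ q := by rw [herm_swap hF v u, e1]
  have e4 : hermForm n F q u' v = lam' ^ q := by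
    rw [herm_swap hF v u', hhu', hlamd']
  have e5 : hermForm n F q (v + lam • u + lam' • u') v = 1 := by
    rw [herm_add_left, herm_add_left, herm_smul_left, herm_smul_left, hv.iso, e3, e4]
    linear_combination hsum
  have h5 := h3.add hv
  rw [e5, one_smul] at h5
  have h6 : v + lam • u + lam' • u' + v = lam • u + lam' • u' := by
    have : v + lam • u + lam' • u' + v = (2 : F) • v + (lam • u + lam' • u') := by
      rw [two_smul]; abel
    rw [this, h2, zero_smul, zero_add]
  rw [h6] at h5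
  refine ⟨_, h5, ?_⟩
  ext m
  rw [mem_supp, hud, hud']
  simp only [Pi.add_apply, Pi.smul_apply, smul_eq_mul, Finset.mem_insert, Finset.mem_singleton]
  by_cases hmi : m = i
  · subst hmi
    simp [hij, hik, hil, hl0]
  by_cases hmj : m = j
  · subst hmj
    simp [hij.symm, hjk, hjl, hl0, ht0]
  by_cases hmk : m = k
  · subst hmk
    simp [hik.symm, hjk.symm, hkl, hl'0]
  by_cases hml : m = l
  · subst hml
    simp [hil.symm, hjl.symm, hkl.symm, hl'0, ht0']
  simp [hmi, hmj, hmk, hml]

/-- for `q ≥ 4`: a vector of weight between `3` and `n - 1`. -/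
theorem exists_mid (hq : 4 ≤ q) (hn : 5 ≤ n) {v : Fin n → F} (hv : TX X v) (h3 : 3 ≤ (supp v).card) :
    ∃ w, TX X w ∧ 3 ≤ (supp w).card ∧ (supp w).card < n := by
  classical
  by_cases hlt : (supp v).card < n
  · exact ⟨v, hv, h3, hlt⟩
  have hfull : ∀ (v : Fin n → F), ¬ (supp v).card < n → ∀ i, v i ≠ 0 := by
    intro v hlt i
    have h1 : supp v = Finset.univ := by
      apply Finset.eq_univ_of_card
      rw [Fintype.card_fin]
      have := Finset.card_le_univ (supp v)
      rw [Fintype.card_fin] at this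
      omega
    exact mem_supp.1 (by rw [h1]; exact Finset.mem_univ i)
  have hsix : ∀ s : Finset (Fin n), s.card ≤ 4 → ∃ i, i ∉ s := fun s hs =>
    exists_notMem_of_card_lt (by omega)
  -- if the norms are not all equal
  have hdiff : ∀ v : Fin n → F, TX X v → ¬ (supp v).card < n → (∃ i j, v i * v i ^ q ≠ v j * v j ^ q) →
      ∃ w, TX X w ∧ 3 ≤ (supp w).card ∧ (supp w).card < n := by
    intro v hv hlt ⟨i, j, hne⟩
    have hij : i ≠ j := by rintro rfl; exact hne rfl
    obtain ⟨k, hk⟩ := hsix {i, j} (Finset.card_le_two.trans (by norm_num))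
    obtain ⟨l, hl⟩ := hsix {i, j, k} (Finset.card_le_three.trans (by norm_num))
    simp only [Finset.mem_insert, Finset.mem_singleton, not_or] at hk hl
    obtain ⟨w, hw, hws⟩ := exists_four hF h2 hG hv hij (Ne.symm hk.1) (Ne.symm hl.1) (Ne.symm hk.2)
      (Ne.symm hl.2.1) (Ne.symm hl.2.2) (hfull v hlt i) (hfull v hlt j) (hfull v hlt k) (hfull v hlt l) hne
    have hcard : (supp w).card = 4 := by
      rw [hws]
      rw [Finset.card_insert_of_notMem, Finset.card_insert_of_notMem, Finset.card_pair]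
      · exact Ne.symm hl.2.2
      · simp only [Finset.mem_insert, Finset.mem_singleton, not_or]
        exact ⟨Ne.symm hk.2, Ne.symm hl.2.1⟩
      · simp only [Finset.mem_insert, Finset.mem_singleton, not_or]
        exact ⟨hij, Ne.symm hk.1, Ne.symm hl.1⟩
    exact ⟨w, hw, by omega, by omega⟩
  by_cases hall : ∃ i j, v i * v i ^ q ≠ v j * v j ^ q
  · exact hdiff v hv hlt hall
  push Not at hall
  have hv0 := hfull v hlt
  have hij : (⟨0, by omega⟩ : Fin n) ≠ ⟨1, by omega⟩ := by
    intro h; exact absurd (Fin.mk.inj h) (by norm_num)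
  obtain ⟨i, hi⟩ : ∃ i : Fin n, i = ⟨0, by omega⟩ := ⟨_, rfl⟩
  obtain ⟨j, hj⟩ : ∃ j : Fin n, j = ⟨1, by omega⟩ := ⟨_, rfl⟩
  rw [← hi, ← hj] at hij
  -- a good value
  obtain ⟨t, ht, ht0, ht1⟩ : ∃ t : F, t * t ^ q = 1 ∧
      t * (v i * v j ^ q) + (t * (v i * v j ^ q)) ^ q ≠ 0 ∧
      t * (v i * v j ^ q) + (t * (v i * v j ^ q)) ^ q ≠ 1 := by
    obtain ⟨h4, h5⟩ := card_values hF (w := v i * v j ^ q) (ρ := 0)
      (mul_ne_zero (hv0 i) (pow_ne_zero _ (hv0 j))) (zero_pow_q hF)
    by_contra hcon
    push Not at hcon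
    have h6 : ((Finset.univ.filter (fun t : F => t * t ^ q = 1)).image
        (fun t => 0 + (t * (v i * v j ^ q) + (t * (v i * v j ^ q)) ^ q))) ⊆ {0, 1} := by
      intro x hx
      rw [Finset.mem_image] at hx
      obtain ⟨t, ht, rfl⟩ := hx
      rw [Finset.mem_filter] at ht
      rw [Finset.mem_insert, Finset.mem_singleton, zero_add]
      by_cases h0 : t * (v i * v j ^ q) + (t * (v i * v j ^ q)) ^ q = 0
      · exact Or.inl h0
      · exact Or.inr (hcon t ht.2 h0)
    have h7 := Finset.card_le_card h6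
    have h8 : ({0, 1} : Finset F).card ≤ 2 := Finset.card_le_two
    have h9 := even_q hF h2
    obtain ⟨m, hm⟩ := h9
    omega
  obtain ⟨x, hx⟩ : ∃ x, x = t * (v i * v j ^ q) + (t * (v i * v j ^ q)) ^ q := ⟨_, rfl⟩
  rw [← hx] at ht0 ht1
  have hu := tx_pair hF h2 hG hij ht
  obtain ⟨u, hud⟩ : ∃ u : Fin n → F, u = Pi.single i 1 + t • Pi.single j 1 := ⟨_, rfl⟩
  rw [← hud] at hu
  obtain ⟨lam, hlam⟩ : ∃ lam, lam = v i + t ^ q * v j := ⟨_, rfl⟩
  have hNl : lam * lam ^ q = x := by
    rw [hlam, norm_add_mul hF, ht, one_mul, hx, hall i j]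
    linear_combination (v j * v j ^ q) * h2
  have hvu : hermForm n F q v u = lam := by rw [hud, herm_right_pair hF, hlam]
  have huv : hermForm n F q u v = lam ^ q := by rw [herm_swap hF v u, hvu]
  have hw := hu.add hv
  rw [huv] at hw
  obtain ⟨w, hwd⟩ : ∃ w, w = u + lam ^ q • v := ⟨_, rfl⟩
  rw [← hwd] at hw
  have hlq : lam ^ q ≠ 0 := by
    intro h0
    apply ht0
    rw [← hNl, h0, mul_zero]
  have hwk : ∀ k, k ≠ i → k ≠ j → w k = lam ^ q * v k := by
    intro k hki hkj
    rw [hwd, hud]
    simp [Pi.single_eq_of_ne hki, Pi.single_eq_of_ne hkj]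
  have hwi : w i = 1 + lam ^ q * v i := by
    rw [hwd, hud]
    simp [Pi.single_eq_of_ne hij]
  have hcard : 3 ≤ (supp w).card := by
    have h4 : (Finset.univ.erase i).erase j ⊆ supp w := by
      intro k hk
      rw [Finset.mem_erase, Finset.mem_erase] at hk
      rw [mem_supp, hwk k hk.2.1 hk.1]
      exact mul_ne_zero hlq (hv0 k)
    have h5 := Finset.card_le_card h4
    rw [Finset.card_erase_of_mem (Finset.mem_erase.2 ⟨hij.symm, Finset.mem_univ _⟩),
      Finset.card_erase_of_mem (Finset.mem_univ _), Finset.card_univ, Fintype.card_fin] at h5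
    omega
  by_cases hlt' : (supp w).card < n
  · exact ⟨w, hw, hcard, hlt'⟩
  refine hdiff w hw hlt' ?_
  obtain ⟨k, hk⟩ := hsix {i, j} (Finset.card_le_two.trans (by norm_num))
  simp only [Finset.mem_insert, Finset.mem_singleton, not_or] at hk
  refine ⟨i, k, fun h => ht1 ?_⟩
  rw [hwk k hk.1 hk.2, hwi] at h
  -- norms
  have e1 : (1 + lam ^ q * v i) * (1 + lam ^ q * v i) ^ q = 1 + (lam ^ q * v i + lam * v i ^ q) +
      (lam * lam ^ q) * (v i * v i ^ q) := by
    rw [add_pow_q hF, one_pow, mul_pow, pow_q_pow_q hF]; ring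
  have e2 : (lam ^ q * v k) * (lam ^ q * v k) ^ q = (lam * lam ^ q) * (v k * v k ^ q) := by
    rw [mul_pow, pow_q_pow_q hF]; ring
  have e3 : lam ^ q * v i + lam * v i ^ q = x := by
    rw [hlam, add_pow_q hF, mul_pow, pow_q_pow_q hF, hx, mul_pow, mul_pow, pow_q_pow_q hF]
    linear_combination (v i * v i ^ q) * h2
  rw [e1, e2, e3, hall k i] at h
  linear_combination h - h2

/-- `q ≥ 4` even, `n ≥ 5`: a subgroup containing the monomial elements and a non-monomial one is everything. -/
theorem eq_top_even (hq : 4 ≤ q) (hn : 5 ≤ n) (hX : ∃ g ∈ X, ¬ IsMono g) : X = ⊤ := by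
  obtain ⟨v, hv, h3⟩ := exists_three hF h2 hG (by omega) hX
  obtain ⟨w, hw, hw3, hwn⟩ := exists_mid hF h2 hG hq hn hv h3
  obtain ⟨k, hk⟩ := exists_notMem_of_card_lt hwn
  have hwk : w k = 0 := by by_contra h; exact hk (mem_supp.2 h)
  obtain ⟨hiso, g, hg, hact⟩ := hw
  refine eq_top_of_fix hF hG (by omega) (by omega) hg ?_ (k := k) (c := 1) ?_
  · intro hmono
    obtain ⟨i, hi⟩ : (supp w).Nonempty := Finset.card_pos.1 (by omega)
    obtain ⟨l, c, hlc⟩ := hmono i
    rw [hact, H927.herm_single_left] at hlc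
    obtain ⟨a, ha⟩ : ((supp w \ {i, l})).Nonempty := by
      rw [← Finset.card_pos]
      have h5 := Finset.le_card_sdiff {i, l} (supp w)
      have h6 : ({i, l} : Finset (Fin n)).card ≤ 2 := Finset.card_le_two
      omega
    simp only [Finset.mem_sdiff, Finset.mem_insert, Finset.mem_singleton, not_or] at ha
    have h7 := congrFun hlc a
    rw [Pi.add_apply, Pi.smul_apply, Pi.smul_apply, Pi.single_eq_of_ne ha.2.1, Pi.single_eq_of_ne ha.2.2,
      zero_add, smul_zero, smul_eq_mul] at h7
    rcases mul_eq_zero.1 h7 with h8 | h8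
    · exact mem_supp.1 hi ((pow_q_eq_zero hF).1 h8)
    · exact mem_supp.1 ha.1 h8
  · rw [hact, H927.herm_single_left, hwk, zero_pow_q hF, zero_smul, add_zero, one_smul]

end Cfsg.Agent.H876.EvenFrame
end

-- part: H876/MonoBasic
section
/-!
# Monomial elements of `SU_n(q)`: products, inverses, the number of moved coordinate vectors
-/

set_option autoImplicit false

namespace Cfsg.Agent.H876.MonoBasic

open Cfsg Cfsg.Agent.LieClassical.HermBasic Cfsg.Agent.LieClassical.HermSiegel Cfsg.Agent.H927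

variable {F : Type*} [Field F] {n q : ℕ}

theorem single_ne_zero (i : Fin n) : (Pi.single i 1 : Fin n → F) ≠ 0 := by
  intro h
  have := congrFun h i
  rw [Pi.single_eq_same] at this
  exact one_ne_zero this

theorem isMono_one : IsMono (1 : SU n F q) := fun j => ⟨j, 1, by rw [act_one, one_smul]⟩

theorem IsMono.mul {g h : SU n F q} (hg : IsMono g) (hh : IsMono h) : IsMono (g * h) := by
  intro j
  obtain ⟨i, c, hc⟩ := hh j
  obtain ⟨l, d, hd⟩ := hg i
  exact ⟨l, c * d, by rw [act_mul, hc, act_smul, hd, smul_smul]⟩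

/-- permutation and coefficients of a monomial element. -/
theorem IsMono.exists_perm {g : SU n F q} (hg : IsMono g) :
    ∃ (σ : Equiv.Perm (Fin n)) (d : Fin n → F), (∀ j, d j ≠ 0) ∧
      ∀ j, act g (Pi.single j 1) = d j • Pi.single (σ j) 1 := by
  choose σ d hd using hg
  have hd0 : ∀ j, d j ≠ 0 := by
    intro j h0
    have h1 := hd j
    rw [h0, zero_smul, act_eq_zero] at h1
    exact single_ne_zero j h1
  have hinj : Function.Injective σ := by
    intro j k hjk
    by_contra hne
    have h1 : act g (d k • Pi.single j 1 - d j • Pi.single k 1) = 0 := by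
      rw [act_sub, act_smul, act_smul, hd, hd, hjk, smul_smul, smul_smul, mul_comm, sub_self]
    rw [act_eq_zero] at h1
    have h2 := congrFun h1 j
    rw [Pi.sub_apply, Pi.smul_apply, Pi.smul_apply, Pi.single_eq_same, Pi.single_eq_of_ne hne] at h2
    simp only [smul_eq_mul, mul_one, mul_zero, sub_zero, Pi.zero_apply] at h2
    exact hd0 k h2
  exact ⟨Equiv.ofBijective σ (Finite.injective_iff_bijective.1 hinj), d, hd0, hd⟩

theorem IsMono.inv {g : SU n F q} (hg : IsMono g) : IsMono g⁻¹ := by
  obtain ⟨σ, d, hd0, hd⟩ := IsMono.exists_perm hg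
  intro j
  refine ⟨σ.symm j, (d (σ.symm j))⁻¹, ?_⟩
  have h1 := hd (σ.symm j)
  rw [Equiv.apply_symm_apply] at h1
  have h2 : act g ((d (σ.symm j))⁻¹ • Pi.single (σ.symm j) 1) = Pi.single j 1 := by
    rw [act_smul, h1, smul_smul, inv_mul_cancel₀ (hd0 _), one_smul]
  rw [← h2, act_inv_act]

theorem isMono_inv_iff {g : SU n F q} : IsMono g⁻¹ ↔ IsMono g :=
  ⟨fun h => by have := IsMono.inv h; rwa [inv_inv] at this, IsMono.inv⟩

theorem isMono_mul_iff_left {g h : SU n F q} (hh : IsMono h) : IsMono (g * h) ↔ IsMono g := by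
  refine ⟨fun h1 => ?_, fun h1 => IsMono.mul h1 hh⟩
  have := IsMono.mul h1 (IsMono.inv hh)
  rwa [mul_inv_cancel_right] at this

/-- the coordinates of the image of a vector under a monomial element. -/
theorem act_perm_apply {g : SU n F q} {σ : Equiv.Perm (Fin n)} {d : Fin n → F}
    (hd : ∀ j, act g (Pi.single j 1) = d j • Pi.single (σ j) 1) (x : Fin n → F) (j : Fin n) :
    act g x (σ j) = d j * x j := by
  classical
  have h1 : x = ∑ k, x k • (Pi.single k 1 : Fin n → F) := by
    conv_lhs => rw [← Finset.univ_sum_single x]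
    refine Finset.sum_congr rfl fun k _ => ?_
    rw [← Pi.single_smul, smul_eq_mul, mul_one]
  conv_lhs => rw [h1]
  rw [act_sum, Finset.sum_apply, Finset.sum_eq_single j]
  · rw [act_smul, hd, Pi.smul_apply, Pi.smul_apply, Pi.single_eq_same, smul_eq_mul, smul_eq_mul, mul_one,
      mul_comm]
  · intro k _ hk
    rw [act_smul, hd, Pi.smul_apply, Pi.smul_apply, Pi.single_eq_of_ne (fun h => hk (σ.injective h).symm)]
    simp
  · intro h; exact absurd (Finset.mem_univ j) h

/-- A non-zero vector supported on `S` satisfying fewer than `card S` linear conditions. -/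
theorem exists_supported {r : ℕ} (S : Finset (Fin n)) (hS : r < S.card)
    (ℓ : Fin r → ((Fin n → F) →ₗ[F] F)) :
    ∃ x : Fin n → F, x ≠ 0 ∧ (∀ i, i ∉ S → x i = 0) ∧ ∀ k, ℓ k x = 0 := by
  classical
  let ext : (S → F) →ₗ[F] (Fin n → F) :=
    { toFun := fun y i => if h : i ∈ S then y ⟨i, h⟩ else 0
      map_add' := fun y z => by funext i; by_cases h : i ∈ S <;> simp [h]
      map_smul' := fun c y => by funext i; by_cases h : i ∈ S <;> simp [h] }
  have hext : ∀ (y : S → F) (i : Fin n) (h : i ∈ S), ext y i = y ⟨i, h⟩ := fun y i h => dif_pos h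
  have hext' : ∀ (y : S → F) (i : Fin n) (_ : i ∉ S), ext y i = 0 := fun y i h => dif_neg h
  have hker : LinearMap.ker ((LinearMap.pi ℓ).comp ext) ≠ ⊥ := by
    apply LinearMap.ker_ne_bot_of_finrank_lt
    rw [Module.finrank_fintype_fun_eq_card, Module.finrank_fintype_fun_eq_card, Fintype.card_fin,
      Fintype.card_coe]
    exact hS
  obtain ⟨y, hy, hy0⟩ := Submodule.exists_mem_ne_zero_of_ne_bot hker
  refine ⟨ext y, ?_, hext' y, ?_⟩
  · intro h0
    apply hy0
    funext ⟨i, hi⟩
    rw [← hext y i hi, h0]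
    rfl
  · intro k
    have h1 := congrFun (LinearMap.mem_ker.1 hy) k
    exact h1

/-- the coordinate vectors moved by `g`. -/
noncomputable def moved (g : SU n F q) : Finset (Fin n) :=
  @Finset.filter (Fin n) (fun k => act g (Pi.single k 1) ≠ Pi.single k 1) (Classical.decPred _) Finset.univ

theorem mem_moved {g : SU n F q} {k : Fin n} :
    k ∈ moved g ↔ act g (Pi.single k 1) ≠ Pi.single k 1 := by
  classical
  simp [moved]

/-- A monomial element acting trivially on the vectors satisfying `r` linear conditions moves at most `2 r`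
coordinate vectors. -/
theorem card_moved_le {g : SU n F q} (hg : IsMono g) {r : ℕ} (ℓ : Fin r → ((Fin n → F) →ₗ[F] F))
    (hfix : ∀ x, (∀ k, ℓ k x = 0) → act g x = x) : (moved g).card ≤ 2 * r := by
  classical
  obtain ⟨σ, d, hd0, hd⟩ := IsMono.exists_perm hg
  have key : ∀ S : Finset (Fin n), (∀ x : Fin n → F, (∀ i, i ∉ S → x i = 0) → act g x = x → x = 0) →
      S.card ≤ r := by
    intro S hS
    by_contra hlt
    push Not at hlt
    obtain ⟨x, hx0, hxS, hxl⟩ := exists_supported S hlt ℓ
    exact hx0 (hS x hxS (hfix x hxl))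
  have hx : ∀ x : Fin n → F, act g x = x → ∀ j, x (σ j) = d j * x j := by
    intro x hx j
    rw [← act_perm_apply hd, hx]
  have hmv : ∀ j, j ∈ moved g → σ j = j → d j ≠ 1 := by
    intro j hj hσ h1
    rw [mem_moved] at hj
    apply hj
    rw [hd, hσ, h1, one_smul]
  have h1 : ((moved g).filter fun j => j ≤ σ j).card ≤ r := by
    apply key
    intro x hxS hgx
    by_contra hx0
    obtain ⟨j0, hj0⟩ : ∃ j, x j ≠ 0 := by
      by_contra hcon
      push Not at hcon
      exact hx0 (funext hcon)
    have hne : (Finset.univ.filter fun j => x j ≠ 0).Nonempty := ⟨j0, Finset.mem_filter.2 ⟨Finset.mem_univ _, hj0⟩⟩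
    obtain ⟨j, hj, hmax⟩ := Finset.exists_max_image _ (fun j : Fin n => j) hne
    have hxj := (Finset.mem_filter.1 hj).2
    have hjS : j ∈ (moved g).filter fun j => j ≤ σ j := by
      by_contra h; exact hxj (hxS j h)
    rw [Finset.mem_filter] at hjS
    have h3 := hx x hgx j
    rcases eq_or_lt_of_le hjS.2 with h4 | h4
    · rw [← h4] at h3
      have h5 : (d j - 1) * x j = 0 := by linear_combination -h3
      rcases mul_eq_zero.1 h5 with h6 | h6
      · exact hmv j hjS.1 h4.symm (by linear_combination h6)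
      · exact hxj h6
    · have h5 : x (σ j) ≠ 0 := by rw [h3]; exact mul_ne_zero (hd0 j) hxj
      have h6 := hmax (σ j) (Finset.mem_filter.2 ⟨Finset.mem_univ _, h5⟩)
      exact absurd h4 (not_lt.2 h6)
  have h2 : ((moved g).filter fun j => ¬ j ≤ σ j).card ≤ r := by
    apply key
    intro x hxS hgx
    by_contra hx0
    obtain ⟨j0, hj0⟩ : ∃ j, x j ≠ 0 := by
      by_contra hcon
      push Not at hcon
      exact hx0 (funext hcon)
    have hne : (Finset.univ.filter fun j => x j ≠ 0).Nonempty := ⟨j0, Finset.mem_filter.2 ⟨Finset.mem_univ _, hj0⟩⟩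
    obtain ⟨j, hj, hmin⟩ := Finset.exists_min_image _ (fun j : Fin n => j) hne
    have hxj := (Finset.mem_filter.1 hj).2
    have hjS : j ∈ (moved g).filter fun j => ¬ j ≤ σ j := by
      by_contra h; exact hxj (hxS j h)
    rw [Finset.mem_filter, not_le] at hjS
    have h3 := hx x hgx j
    have h5 : x (σ j) ≠ 0 := by rw [h3]; exact mul_ne_zero (hd0 j) hxj
    have h6 := hmin (σ j) (Finset.mem_filter.2 ⟨Finset.mem_univ _, h5⟩)
    exact absurd hjS.2 (not_lt.2 h6)
  have h3 := Finset.card_filter_add_card_filter_not (s := moved g) (fun j => j ≤ σ j)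
  omega

theorem exists_not_moved {g : SU n F q} (h : (moved g).card < n) :
    ∃ k, act g (Pi.single k 1) = Pi.single k 1 := by
  obtain ⟨k, hk⟩ := EvenFrame.exists_notMem_of_card_lt h
  rw [mem_moved, not_not] at hk
  exact ⟨k, hk⟩

theorem exists_two_not_moved {g : SU n F q} (h : (moved g).card + 1 < n) :
    ∃ k l, k ≠ l ∧ act g (Pi.single k 1) = Pi.single k 1 ∧ act g (Pi.single l 1) = Pi.single l 1 := by
  classical
  obtain ⟨k, hk⟩ := EvenFrame.exists_notMem_of_card_lt (s := moved g) (n := n) (by omega)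
  obtain ⟨l, hl⟩ := EvenFrame.exists_notMem_of_card_lt (s := insert k (moved g)) (n := n)
    (lt_of_le_of_lt (Finset.card_insert_le _ _) h)
  rw [Finset.mem_insert, not_or] at hl
  refine ⟨k, l, Ne.symm hl.1, ?_, ?_⟩
  · rw [mem_moved, not_not] at hk; exact hk
  · have := hl.2
    rw [mem_moved, not_not] at this
    exact this

end Cfsg.Agent.H876.MonoBasic
end

-- part: H876/OddFrame
section
/-!
# Overgroups of the monomial group of `SU_n(q)`, `q` odd: a non-monomial element fixing a line
-/

set_option autoImplicit false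

namespace Cfsg.Agent.H876.OddFrame

open Cfsg Cfsg.Agent.LieClassical.HermBasic Cfsg.Agent.LieClassical.HermSiegel Cfsg.Agent.H927
open Cfsg.Agent.H876.MonoBasic

section Dihedral

variable {G : Type*} [Group G] {b b' : G}

theorem dih_key (hb : b * b = 1) (hb' : b' * b' = 1) (i : ℕ) :
    b * (b * b') ^ i = ((b * b') ^ i)⁻¹ * b := by
  induction i with
  | zero => simp
  | succ i ih =>
    have hbi : b⁻¹ = b := inv_eq_of_mul_eq_one_left hb
    have hbi' : b'⁻¹ = b' := inv_eq_of_mul_eq_one_left hb'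
    rw [pow_succ, ← mul_assoc, ih, mul_inv_rev, mul_inv_rev, hbi, hbi']
    have h1 : b * (b * b') = b' := by rw [← mul_assoc, hb, one_mul]
    have h2 : ((b * b') ^ i)⁻¹ * b * (b * b') = ((b * b') ^ i)⁻¹ * b' := by
      rw [mul_assoc, h1]
    have h3 : (b' * b) * ((b * b') ^ i)⁻¹ = ((b * b') ^ i)⁻¹ * (b' * b) := by
      have h4 : b' * b = (b * b')⁻¹ := by rw [mul_inv_rev, hbi, hbi']
      rw [h4]
      exact ((Commute.refl (b * b')).pow_right i).inv_inv.eq
    rw [h2, h3]
    rw [mul_assoc, mul_assoc, hb, mul_one]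

theorem dih_conj (hb : b * b = 1) (hb' : b' * b' = 1) (m : ℕ) :
    ∃ i : ℕ, b * (b * b') ^ m = ((b * b') ^ i)⁻¹ * b * (b * b') ^ i ∨
      b * (b * b') ^ m = ((b * b') ^ i)⁻¹ * b' * (b * b') ^ i := by
  rcases Nat.even_or_odd' m with ⟨i, hi | hi⟩
  · refine ⟨i, Or.inl ?_⟩
    rw [← dih_key hb hb', hi, two_mul, pow_add, mul_assoc]
  · refine ⟨i, Or.inr ?_⟩
    have h2 : ((b * b') ^ i)⁻¹ * b' = b * (b * b') ^ i * (b * b') := by
      calc ((b * b') ^ i)⁻¹ * b' = ((b * b') ^ i)⁻¹ * (b * (b * b')) := by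
            rw [← mul_assoc b b b', hb, one_mul]
        _ = b * (b * b') ^ i * (b * b') := by rw [← mul_assoc, ← dih_key hb hb']
    rw [h2, hi, mul_assoc, mul_assoc, ← pow_succ', ← pow_add]
    congr 2
    ring

end Dihedral

variable {F : Type*} [Field F] {n q : ℕ}

/-- `b` changes the signs of the coordinates `i` and `j`. -/
def IsB (b : SU n F q) (i j : Fin n) : Prop :=
  ∀ x l, act b x l = if l = i ∨ l = j then -x l else x l

/-- diagonal elements -/
def IsDiag (z : SU n F q) : Prop := ∃ ζ : Fin n → F, ∀ j, act z (Pi.single j 1) = ζ j • Pi.single j 1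

theorem IsDiag.isMono {z : SU n F q} (h : IsDiag z) : IsMono z := by
  obtain ⟨ζ, hζ⟩ := h
  exact fun j => ⟨j, ζ j, hζ j⟩

theorem IsDiag.mul {z w : SU n F q} (h : IsDiag z) (h' : IsDiag w) : IsDiag (z * w) := by
  obtain ⟨ζ, hζ⟩ := h
  obtain ⟨η, hη⟩ := h'
  refine ⟨fun j => η j * ζ j, fun j => ?_⟩
  rw [act_mul, hη, act_smul, hζ, smul_smul]

theorem IsB.single {b : SU n F q} {i j : Fin n} (h : IsB b i j) (k : Fin n) :
    act b (Pi.single k 1) = (if k = i ∨ k = j then (-1 : F) else 1) • Pi.single k 1 := by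
  funext l
  rw [h, Pi.smul_apply, smul_eq_mul]
  by_cases hl : l = k
  · subst hl
    rw [Pi.single_eq_same]
    split_ifs <;> ring
  · rw [Pi.single_eq_of_ne hl]
    split_ifs <;> ring

theorem IsB.isDiag {b : SU n F q} {i j : Fin n} (h : IsB b i j) : IsDiag b :=
  ⟨_, h.single⟩

theorem IsB.mul_self {b : SU n F q} {i j : Fin n} (h : IsB b i j) : b * b = 1 := by
  apply ext_act
  intro x
  funext l
  rw [act_mul, act_one, h, h]
  split_ifs <;> ring

theorem IsB.inv {b : SU n F q} {i j : Fin n} (h : IsB b i j) : b⁻¹ = b :=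
  inv_eq_of_mul_eq_one_left h.mul_self

theorem IsB.unique {b b' : SU n F q} {i j : Fin n} (h : IsB b i j) (h' : IsB b' i j) : b = b' := by
  apply ext_act
  intro x
  funext l
  rw [h, h']

/-- a monomial conjugate of `b` is diagonal. -/
theorem isDiag_conj {b u : SU n F q} (hb : IsDiag b) (hu : IsMono u) : IsDiag (u⁻¹ * b * u) := by
  obtain ⟨ζ, hζ⟩ := hb
  obtain ⟨σ, d, hd0, hd⟩ := IsMono.exists_perm hu
  refine ⟨fun j => ζ (σ j), fun j => ?_⟩
  rw [act_mul, act_mul, hd, act_smul, hζ, smul_comm, ← hd, act_smul, act_inv_act]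

theorem IsB.conj_perm {b h : SU n F q} {i j : Fin n} (hb : IsB b i j) {σ : Equiv.Perm (Fin n)}
    {d : Fin n → F} (hd : ∀ j, act h (Pi.single j 1) = d j • Pi.single (σ j) 1) :
    IsB (h * b * h⁻¹) (σ i) (σ j) := by
  intro x l
  obtain ⟨m, rfl⟩ := σ.surjective l
  have h1 : x (σ m) = d m * act h⁻¹ x m := by
    rw [← act_perm_apply hd, act_act_inv]
  rw [act_mul, act_mul, act_perm_apply hd, hb, h1]
  simp only [σ.injective.eq_iff]
  split_ifs <;> ring

section

variable [Fintype F] (hF : Fintype.card F = q ^ 2)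
include hF

theorem act_inv_single (g : SU n F q) (i k : Fin n) :
    act g⁻¹ (Pi.single i 1) k = (act g (Pi.single k 1) i) ^ q := by
  rw [← H927.herm_single_right hF (act g⁻¹ (Pi.single i 1)) k, ← herm_act g, act_act_inv, H927.herm_single_left]

theorem exists_B {i j : Fin n} (hij : i ≠ j) : ∃ b : SU n F q, IsB b i j := by
  obtain ⟨b, hb⟩ := exists_tor hF (herm_single_self hF i) (herm_single_self hF j) (herm_single_ne hF hij)
    (c := -1) (by rw [neg_pow_q hF, one_pow]; ring)
  refine ⟨b, fun x l => ?_⟩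
  rw [hb, H927.herm_single_right hF, H927.herm_single_right hF, neg_pow_q hF, one_pow]
  simp only [Pi.add_apply, Pi.smul_apply, smul_eq_mul]
  by_cases hli : l = i
  · subst hli
    rw [Pi.single_eq_same, Pi.single_eq_of_ne hij, if_pos (Or.inl rfl)]; ring
  by_cases hlj : l = j
  · subst hlj
    rw [Pi.single_eq_same, Pi.single_eq_of_ne hli, if_pos (Or.inr rfl)]; ring
  rw [Pi.single_eq_of_ne hli, Pi.single_eq_of_ne hlj, if_neg (by tauto)]; ring

variable {X : Subgroup (SU n F q)} (hG : ∀ g : SU n F q, IsMono g → g ∈ X)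
  (hstar : ∀ y ∈ X, ∀ (k : Fin n) (c : F), act y (Pi.single k 1) = c • Pi.single k 1 → IsMono y)
include hG hstar

/-- two zeros in a row: the structure of the corresponding columns. -/
theorem cp (hq : 3 ≤ q) {g : SU n F q} (hg : g ∈ X) {k l j : Fin n} (hkl : k ≠ l)
    (hjk : act g (Pi.single k 1) j = 0) (hjl : act g (Pi.single l 1) j = 0) (i : Fin n) :
    (act g (Pi.single k 1) i = 0 ∧ act g (Pi.single l 1) i = 0) ∨
      ∀ m, m ≠ k → m ≠ l → act g (Pi.single m 1) i = 0 := by
  classical
  obtain ⟨u, hu⟩ : ∃ u, u = act g (Pi.single k 1) := ⟨_, rfl⟩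
  obtain ⟨w, hw⟩ : ∃ w, w = act g (Pi.single l 1) := ⟨_, rfl⟩
  rw [← hu] at hjk
  rw [← hw] at hjl
  rw [← hu, ← hw]
  have hT : TorIn X u w := by
    rw [hu, hw]; exact (torIn_single hF hG hkl).map hF hg
  have huu : hermForm n F q u u = 1 := by rw [hu, herm_act, herm_single_self hF]
  have hww : hermForm n F q w w = 1 := by rw [hw, herm_act, herm_single_self hF]
  have huw : hermForm n F q u w = 0 := by rw [hu, hw, herm_act, herm_single_ne hF hkl]
  have hwu : hermForm n F q w u = 0 := herm_eq_zero_swap hF huw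
  by_cases h0 : u i = 0 ∧ w i = 0
  · exact Or.inl h0
  right
  -- the main claim
  have hmain : (Pi.single i 1 : Fin n → F) = (u i) ^ q • u + (w i) ^ q • w := by
    by_contra hne
    obtain ⟨A, hA⟩ : ∃ A, A = u i * u i ^ q := ⟨_, rfl⟩
    obtain ⟨B, hB⟩ : ∃ B, B = w i * w i ^ q := ⟨_, rfl⟩
    have hP0 : (Polynomial.C A * Polynomial.X ^ 2 + Polynomial.C (1 - A - B) * Polynomial.X +
        Polynomial.C B : Polynomial F) ≠ 0 := by
      intro hP
      have h1 := congrArg (fun p => Polynomial.coeff p 2) hP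
      have h2 := congrArg (fun p => Polynomial.coeff p 0) hP
      simp [Polynomial.coeff_X, Polynomial.coeff_C, Polynomial.coeff_one] at h1 h2
      apply h0
      constructor
      · exact (norm_eq_zero hF).1 (hA ▸ h1)
      · exact (norm_eq_zero hF).1 (hB ▸ h2)
    obtain ⟨c, hc, hcP⟩ := exists_norm_one_not_root hF ((Polynomial.X - Polynomial.C 1) *
      (Polynomial.C A * Polynomial.X ^ 2 + Polynomial.C (1 - A - B) * Polynomial.X + Polynomial.C B))
      (mul_ne_zero (Polynomial.X_sub_C_ne_zero 1) hP0) (by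
        refine (Polynomial.natDegree_mul_le).trans ?_
        rw [Polynomial.natDegree_X_sub_C]
        have : (Polynomial.C A * Polynomial.X ^ 2 + Polynomial.C (1 - A - B) * Polynomial.X +
          Polynomial.C B : Polynomial F).natDegree ≤ 2 := by compute_degree
        omega)
    simp only [Polynomial.eval_mul, Polynomial.eval_sub, Polynomial.eval_add, Polynomial.eval_C,
      Polynomial.eval_X, Polynomial.eval_pow] at hcP
    have hc1 : c - 1 ≠ 0 := left_ne_zero_of_mul hcP
    have hcP2 := right_ne_zero_of_mul hcP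
    obtain ⟨y, hy, hact⟩ := hT c hc
    have hmono : IsMono y := by
      apply hstar y hy j 1
      rw [hact, H927.herm_single_left, H927.herm_single_left, hjk, hjl, zero_pow_q hF]
      simp
    obtain ⟨m, γ, hm⟩ := hmono i
    rw [hact, H927.herm_single_left, H927.herm_single_left] at hm
    by_cases hmi : m = i
    · subst hmi
      -- products with `u` and `w`
      have e1 := congrArg (fun v => hermForm n F q v u) hm
      have e2 := congrArg (fun v => hermForm n F q v w) hm
      simp only [herm_add_left, herm_smul_left, H927.herm_single_left, huu, hww, huw, hwu] at e1 e2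
      have hcq1 : c ^ q - 1 ≠ 0 := by
        intro h
        apply hc1
        have : c ^ q = 1 := by linear_combination h
        rw [this, mul_one] at hc
        rw [hc, sub_self]
      by_cases hu0 : u m = 0
      · have hw0 : w m ≠ 0 := fun h => h0 ⟨hu0, h⟩
        have hwq : w m ^ q ≠ 0 := pow_ne_zero _ hw0
        have hγ : γ = c ^ q := by
          have : (c ^ q - γ) * w m ^ q = 0 := by linear_combination e2
          have := (mul_eq_zero.1 this).resolve_right hwq
          linear_combination -this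
        apply hne
        have h3 : (c ^ q - 1) • (Pi.single m 1 - w m ^ q • w : Fin n → F) = 0 := by
          rw [hu0, zero_pow_q hF, mul_zero, zero_smul, add_zero, hγ] at hm
          funext l
          have h4 := congrFun hm l
          simp only [Pi.add_apply, Pi.smul_apply, Pi.sub_apply, smul_eq_mul, Pi.zero_apply] at h4 ⊢
          linear_combination -h4
        have h4 := (smul_eq_zero.1 h3).resolve_left hcq1
        rw [hu0, zero_pow_q hF, zero_smul, zero_add]
        exact sub_eq_zero.1 h4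
      · have huq : u m ^ q ≠ 0 := pow_ne_zero _ hu0
        have hγ : γ = c := by
          have : (c - γ) * u m ^ q = 0 := by linear_combination e1
          have := (mul_eq_zero.1 this).resolve_right huq
          linear_combination -this
        apply hne
        have h5 : (c ^ q - c) * w m ^ q = 0 := by
          rw [hγ] at e2; linear_combination e2
        have h3 : (c - 1) • (Pi.single m 1 - (u m ^ q • u + w m ^ q • w) : Fin n → F) = 0 := by
          rw [hγ] at hm
          funext l
          have h4 := congrFun hm l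
          simp only [Pi.add_apply, Pi.smul_apply, Pi.sub_apply, smul_eq_mul, Pi.zero_apply] at h4 ⊢
          linear_combination -h4 + w l * h5
        have h4 := (smul_eq_zero.1 h3).resolve_left hc1
        exact sub_eq_zero.1 h4
    · apply hcP2
      have h3 := congrFun hm i
      simp only [Pi.add_apply, Pi.smul_apply, smul_eq_mul, Pi.single_eq_same,
        Pi.single_eq_of_ne (Ne.symm hmi)] at h3
      rw [hA, hB]
      linear_combination c * h3 - (w i * w i ^ q) * hc
  intro m hmk hml
  rw [← H927.herm_single_right hF (act g (Pi.single m 1)) i, hmain, herm_add_right hF, herm_smul_right,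
    herm_smul_right, hu, hw, herm_act, herm_act, herm_single_ne hF hmk, herm_single_ne hF hml, mul_zero, mul_zero,
    add_zero]

/-- two zeros in a row: the element is monomial. -/
theorem mono_of_zeros (hn : 5 ≤ n) (hq : 3 ≤ q) {g : SU n F q} (hg : g ∈ X) {k l j : Fin n} (hkl : k ≠ l)
    (hjk : act g (Pi.single k 1) j = 0) (hjl : act g (Pi.single l 1) j = 0) : IsMono g := by
  classical
  have hsmall : ∀ s : Finset (Fin n), s.card ≤ 4 → ∃ i, i ∉ s := fun s hs =>
    EvenFrame.exists_notMem_of_card_lt (by omega)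
  have hcard3 : ∀ a b c : Fin n, ({a, b, c} : Finset (Fin n)).card ≤ 3 := fun a b c => Finset.card_le_three
  have hcard4 : ∀ a b c d : Fin n, ({a, b, c, d} : Finset (Fin n)).card ≤ 4 := fun a b c d =>
    Finset.card_le_four
  have hcol : ∀ a, ∃ i, act g (Pi.single a 1) i ≠ 0 := by
    intro a
    by_contra hcon
    push Not at hcon
    have h1 : act g (Pi.single a 1) = 0 := funext hcon
    rw [act_eq_zero] at h1
    exact single_ne_zero a h1
  -- step 1
  have step1 : ∀ m m', m ≠ k → m ≠ l → m' ≠ k → m' ≠ l → m ≠ m' → ∀ i,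
      (act g (Pi.single m 1) i = 0 ∧ act g (Pi.single m' 1) i = 0) ∨
        ∀ x, x ≠ m → x ≠ m' → act g (Pi.single x 1) i = 0 := by
    intro m m' hmk hml hmk' hml' hmm'
    obtain ⟨i, hi⟩ := hcol k
    have h1 := (cp hF hG hstar hq hg hkl hjk hjl i).resolve_left (fun h => hi h.1)
    exact cp hF hG hstar hq hg hmm' (h1 m hmk hml) (h1 m' hmk' hml')
  have step2 : ∀ x, x ≠ k → x ≠ l → (∀ i, (act g (Pi.single k 1) i = 0 ∧ act g (Pi.single x 1) i = 0) ∨
        ∀ y, y ≠ k → y ≠ x → act g (Pi.single y 1) i = 0) ∧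
      (∀ i, (act g (Pi.single l 1) i = 0 ∧ act g (Pi.single x 1) i = 0) ∨
        ∀ y, y ≠ l → y ≠ x → act g (Pi.single y 1) i = 0) := by
    intro x hxk hxl
    obtain ⟨m, hm⟩ := hsmall {k, l, x} ((hcard3 _ _ _).trans (by norm_num))
    obtain ⟨m', hm'⟩ := hsmall {k, l, x, m} (hcard4 _ _ _ _)
    simp only [Finset.mem_insert, Finset.mem_singleton, not_or] at hm hm'
    obtain ⟨i, hi⟩ := hcol m
    have h1 := (step1 m m' hm.1 hm.2.1 hm'.1 hm'.2.1 (Ne.symm hm'.2.2.2) i).resolve_left (fun h => hi h.1)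
    have hk := h1 k (Ne.symm hm.1) (Ne.symm hm'.1)
    have hl := h1 l (Ne.symm hm.2.1) (Ne.symm hm'.2.1)
    have hx := h1 x (Ne.symm hm.2.2) (Ne.symm hm'.2.2.1)
    exact ⟨cp hF hG hstar hq hg (Ne.symm hxk) hk hx, cp hF hG hstar hq hg (Ne.symm hxl) hl hx⟩
  have hR : ∀ a b, a ≠ b → ∀ i, (act g (Pi.single a 1) i = 0 ∧ act g (Pi.single b 1) i = 0) ∨
      ∀ y, y ≠ a → y ≠ b → act g (Pi.single y 1) i = 0 := by
    intro a b hab
    by_cases hak : a = k
    · subst hak
      by_cases hbl : b = l
      · subst hbl; exact cp hF hG hstar hq hg hkl hjk hjl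
      · exact (step2 b (Ne.symm hab) hbl).1
    by_cases hal : a = l
    · subst hal
      by_cases hbk : b = k
      · subst hbk; exact cp hF hG hstar hq hg hkl.symm hjl hjk
      · exact (step2 b hbk (Ne.symm hab)).2
    by_cases hbk : b = k
    · subst hbk
      intro i
      rcases (step2 a hak hal).1 i with h | h
      · exact Or.inl ⟨h.2, h.1⟩
      · exact Or.inr fun y hya hyb => h y hyb hya
    by_cases hbl : b = l
    · subst hbl
      intro i
      rcases (step2 a hak hal).2 i with h | h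
      · exact Or.inl ⟨h.2, h.1⟩
      · exact Or.inr fun y hya hyb => h y hyb hya
    exact step1 a b hak hal hbk hbl hab
  rw [← isMono_inv_iff]
  intro i
  obtain ⟨a, ha⟩ : ∃ a, act g (Pi.single a 1) i ≠ 0 := by
    by_contra hcon
    push Not at hcon
    have h1 : act g⁻¹ (Pi.single i 1) = 0 := by
      funext m
      rw [act_inv_single hF, hcon, zero_pow_q hF]
      rfl
    rw [act_eq_zero] at h1
    exact single_ne_zero i h1
  obtain ⟨b, hb⟩ := hsmall {a} (by simp)
  obtain ⟨c, hc⟩ := hsmall {a, b} (Finset.card_le_two.trans (by norm_num))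
  simp only [Finset.mem_insert, Finset.mem_singleton, not_or] at hb hc
  have h1 := (hR a b (Ne.symm hb) i).resolve_left (fun h => ha h.1)
  have h2 := (hR a c (Ne.symm hc.1) i).resolve_left (fun h => ha h.1)
  refine ⟨a, act g⁻¹ (Pi.single i 1) a, ?_⟩
  funext m
  rw [Pi.smul_apply, smul_eq_mul]
  by_cases hma : m = a
  · subst hma; rw [Pi.single_eq_same, mul_one]
  · rw [Pi.single_eq_of_ne hma, mul_zero, act_inv_single hF]
    by_cases hmb : m = b
    · subst hmb
      rw [h2 m hma (Ne.symm hc.2), zero_pow_q hF]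
    · rw [h1 m hma hmb, zero_pow_q hF]

/-- the linear form `x ↦ (g x) i`. -/
def lin (g : SU n F q) (i : Fin n) : (Fin n → F) →ₗ[F] F :=
  (LinearMap.proj i).comp (Matrix.toLin' (mat g))

omit [Fintype F] hF hG hstar in
theorem lin_apply (g : SU n F q) (i : Fin n) (x : Fin n → F) : lin g i x = act g x i := rfl

variable (h2 : (2 : F) ≠ 0)
include h2

/-- (U): the frame of `b` is unique. -/
theorem mono_of_conj (hn : 5 ≤ n) (hq : 3 ≤ q) {g b : SU n F q} (hg : g ∈ X) {i j : Fin n} (hij : i ≠ j)
    (hb : IsB b i j) (hm : IsMono (g⁻¹ * b * g)) : IsMono g := by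
  have h1 := card_moved_le hm (r := 2) ![lin g i, lin g j] (by
    intro x hx
    have hi : act g x i = 0 := hx 0
    have hj : act g x j = 0 := hx 1
    have h3 : act b (act g x) = act g x := by
      funext l
      rw [hb]
      split_ifs with h
      · rcases h with rfl | rfl
        · rw [hi, neg_zero]
        · rw [hj, neg_zero]
      · rfl
    rw [act_mul, act_mul, h3, act_inv_act])
  obtain ⟨k, hk⟩ := exists_not_moved (g := g⁻¹ * b * g) (by omega)
  have h3 : act b (act g (Pi.single k 1)) = act g (Pi.single k 1) := by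
    have h4 := congrArg (act g) hk
    rwa [act_mul, act_mul, act_act_inv] at h4
  have hz : ∀ l, l = i ∨ l = j → act g (Pi.single k 1) l = 0 := by
    intro l hl
    have h4 := congrFun h3 l
    rw [hb, if_pos hl] at h4
    have h5 : (2 : F) * act g (Pi.single k 1) l = 0 := by linear_combination -h4
    exact (mul_eq_zero.1 h5).resolve_left h2
  rw [← isMono_inv_iff]
  refine mono_of_zeros hF hG hstar hn hq (X.inv_mem hg) hij (j := k) ?_ ?_
  · rw [act_inv_single hF, hz i (Or.inl rfl), zero_pow_q hF]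
  · rw [act_inv_single hF, hz j (Or.inr rfl), zero_pow_q hF]

/-- (O): involutions with different frames generate a dihedral group of order `2 · odd`. -/
theorem odd_order (hn : 5 ≤ n) (hq : 3 ≤ q) {g b b0 : SU n F q} (hg : g ∈ X) (hgm : ¬ IsMono g)
    {i j k l : Fin n} (hij : i ≠ j) (hkl : k ≠ l) (hb : IsB b i j) (hb0 : IsB b0 k l) :
    Odd (orderOf (b * (g * b0 * g⁻¹))) := by
  classical
  obtain ⟨b', hb'⟩ : ∃ b', b' = g * b0 * g⁻¹ := ⟨_, rfl⟩
  rw [← hb']
  have hbb := hb.mul_self
  have hbb' : b' * b' = 1 := by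
    rw [hb']
    have h3 := hb0.mul_self
    calc g * b0 * g⁻¹ * (g * b0 * g⁻¹) = g * (b0 * b0) * g⁻¹ := by group
      _ = 1 := by rw [h3]; group
  have hbX : b ∈ X := hG b hb.isDiag.isMono
  have hb0X : b0 ∈ X := hG b0 hb0.isDiag.isMono
  have hb'X : b' ∈ X := by rw [hb']; exact X.mul_mem (X.mul_mem hg hb0X) (X.inv_mem hg)
  have hwX : b * b' ∈ X := X.mul_mem hbX hb'X
  by_contra hodd
  rw [Nat.not_odd_iff_even] at hodd
  obtain ⟨m, hm⟩ := hodd
  have hpos : 0 < orderOf (b * b') := orderOf_pos _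
  obtain ⟨z, hz⟩ : ∃ z, z = (b * b') ^ m := ⟨_, rfl⟩
  have hz1 : z ≠ 1 := by
    rw [hz]
    exact pow_ne_one_of_lt_orderOf (by omega) (by omega)
  have hzz : z * z = 1 := by
    rw [hz, ← pow_add, ← hm, pow_orderOf_eq_one]
  have hzi : z⁻¹ = z := inv_eq_of_mul_eq_one_left hzz
  have hzX : z ∈ X := by rw [hz]; exact X.pow_mem hwX m
  have hzb : b * z = z * b := by
    have h3 := dih_key hbb hbb' m
    rw [← hz, hzi] at h3
    exact h3
  have hzw : (b * b') * z = z * (b * b') := by
    rw [hz]; exact ((Commute.refl (b * b')).pow_right m).eq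
  have hzb' : b' * z = z * b' := by
    have h3 : b' = b * (b * b') := by rw [← mul_assoc, hbb, one_mul]
    calc b' * z = b * (b * b') * z := by rw [← h3]
      _ = b * (z * (b * b')) := by rw [mul_assoc, hzw]
      _ = z * b * (b * b') := by rw [← mul_assoc, hzb]
      _ = z * b' := by rw [mul_assoc, ← h3]
  -- `z` is monomial
  have hzm : IsMono z := by
    apply mono_of_conj hF hG hstar h2 hn hq hzX hij hb
    have h3 : z⁻¹ * b * z = b := by rw [mul_assoc, hzb, ← mul_assoc, inv_mul_cancel, one_mul]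
    rw [h3]; exact hb.isDiag.isMono
  obtain ⟨z', hz'⟩ : ∃ z', z' = g⁻¹ * z * g := ⟨_, rfl⟩
  have hz'X : z' ∈ X := by rw [hz']; exact X.mul_mem (X.mul_mem (X.inv_mem hg) hzX) hg
  have hz'm : IsMono z' := by
    apply mono_of_conj hF hG hstar h2 hn hq hz'X hkl hb0
    have h3 : z'⁻¹ * b0 * z' = b0 := by
      have h5 : z⁻¹ * b' * z = b' := by rw [mul_assoc, hzb', ← mul_assoc, inv_mul_cancel, one_mul]
      have h6 : z'⁻¹ * b0 * z' = g⁻¹ * (z⁻¹ * (g * b0 * g⁻¹) * z) * g := by rw [hz']; group
      rw [h6, ← hb', h5, hb']; group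
    rw [h3]; exact hb0.isDiag.isMono
  -- `z` is diagonal
  have hzd : IsDiag z := by
    have h4 : IsDiag (b * z) := by
      obtain ⟨t, ht⟩ := dih_conj hbb hbb' m
      rw [← hz] at ht
      have hwt : (b * b') ^ t ∈ X := X.pow_mem hwX t
      have hbzm : IsMono (b * z) := IsMono.mul hb.isDiag.isMono hzm
      rcases ht with ht | ht
      · rw [ht] at hbzm ⊢
        exact isDiag_conj hb.isDiag (mono_of_conj hF hG hstar h2 hn hq hwt hij hb hbzm)
      · have h5 : ((b * b') ^ t)⁻¹ * b' * (b * b') ^ t =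
            (g⁻¹ * (b * b') ^ t)⁻¹ * b0 * (g⁻¹ * (b * b') ^ t) := by
          generalize (b * b') ^ t = u
          rw [hb']; group
        rw [ht, h5] at hbzm
        rw [ht, h5]
        exact isDiag_conj hb0.isDiag (mono_of_conj hF hG hstar h2 hn hq (X.mul_mem (X.inv_mem hg) hwt)
          hkl hb0 hbzm)
    have h5 : z = b * (b * z) := by rw [← mul_assoc, hbb, one_mul]
    rw [h5]; exact hb.isDiag.mul h4
  -- `z'` is diagonal
  have hzd' : IsDiag z' := by
    have h4 : IsDiag (b0 * z') := by
      have e0 : b0 * z' = g⁻¹ * (b' * z) * g := by rw [hz', hb']; group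
      have e1 : b' * z = b * (b * b') ^ (m + 1) := by
        rw [hz, pow_succ', ← mul_assoc, ← mul_assoc, hbb, one_mul]
      obtain ⟨t, ht⟩ := dih_conj hbb hbb' (m + 1)
      rw [← e1] at ht
      have hwt : (b * b') ^ t ∈ X := X.pow_mem hwX t
      have hbzm : IsMono (b0 * z') := IsMono.mul hb0.isDiag.isMono hz'm
      rcases ht with ht | ht
      · have e2 : b0 * z' = ((b * b') ^ t * g)⁻¹ * b * ((b * b') ^ t * g) := by
          rw [e0, ht]; group
        rw [e2] at hbzm ⊢
        exact isDiag_conj hb.isDiag (mono_of_conj hF hG hstar h2 hn hq (X.mul_mem hwt hg) hij hb hbzm)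
      · have e2 : b0 * z' = (g⁻¹ * (b * b') ^ t * g)⁻¹ * b0 * (g⁻¹ * (b * b') ^ t * g) := by
          rw [e0, ht]
          generalize (b * b') ^ t = u
          rw [hb']; group
        rw [e2] at hbzm ⊢
        exact isDiag_conj hb0.isDiag (mono_of_conj hF hG hstar h2 hn hq
          (X.mul_mem (X.mul_mem (X.inv_mem hg) hwt) hg) hkl hb0 hbzm)
    have hb00 := hb0.mul_self
    have h5 : z' = b0 * (b0 * z') := by rw [← mul_assoc, hb00, one_mul]
    rw [h5]; exact hb0.isDiag.mul h4
  obtain ⟨ζ, hζ⟩ := hzd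
  obtain ⟨ζ', hζ'⟩ := hzd'
  have hzact : ∀ (x : Fin n → F) (a : Fin n), act z x a = ζ a * x a := fun x a =>
    act_perm_apply (σ := Equiv.refl _) hζ x a
  have hζ2 : ∀ a, ζ a = 1 ∨ ζ a = -1 := by
    intro a
    have h3 : act (z * z) (Pi.single a 1) = Pi.single a 1 := by rw [hzz, act_one]
    have h4 := congrFun h3 a
    rw [act_mul, hzact, hzact, Pi.single_eq_same] at h4
    exact mul_self_eq_one_iff.1 (by linear_combination h4)
  have hz'act : ∀ (x : Fin n → F) (a : Fin n), act z' x a = ζ' a * x a := fun x a =>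
    act_perm_apply (σ := Equiv.refl _) hζ' x a
  have hzz' : z' * z' = 1 := by
    have h3 : z' * z' = g⁻¹ * (z * z) * g := by rw [hz']; group
    rw [h3, hzz]; group
  have hζ2' : ∀ a, ζ' a = 1 ∨ ζ' a = -1 := by
    intro a
    have h3 : act (z' * z') (Pi.single a 1) = Pi.single a 1 := by rw [hzz', act_one]
    have h4 := congrFun h3 a
    rw [act_mul, hz'act, hz'act, Pi.single_eq_same] at h4
    exact mul_self_eq_one_iff.1 (by linear_combination h4)
  -- both signs occur
  have hneg : ∃ a, ζ a = -1 := by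
    by_contra hcon
    push Not at hcon
    apply hz1
    apply ext_act
    intro x
    funext a
    rw [hzact, act_one, (hζ2 a).resolve_right (hcon a), one_mul]
  have hpos' : ∃ a, ζ a = 1 := by
    obtain ⟨x, hx0, -, hx⟩ := exists_supported (r := 4) (Finset.univ : Finset (Fin n))
      (by rw [Finset.card_univ, Fintype.card_fin]; omega)
      ![lin (1 : SU n F q) i, lin (1 : SU n F q) j, lin g⁻¹ k, lin g⁻¹ l]
    have x1 : x i = 0 := by have := hx 0; simpa [lin_apply, act_one] using this
    have x2 : x j = 0 := by have := hx 1; simpa [lin_apply, act_one] using this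
    have x3 : act g⁻¹ x k = 0 := hx 2
    have x4 : act g⁻¹ x l = 0 := hx 3
    have hbx : act b x = x := by
      funext a
      rw [hb]
      split_ifs with h
      · rcases h with rfl | rfl
        · rw [x1, neg_zero]
        · rw [x2, neg_zero]
      · rfl
    have hb0x : act b0 (act g⁻¹ x) = act g⁻¹ x := by
      funext a
      rw [hb0]
      split_ifs with h
      · rcases h with rfl | rfl
        · rw [x3, neg_zero]
        · rw [x4, neg_zero]
      · rfl
    have hb'x : act b' x = x := by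
      rw [hb', act_mul, act_mul, hb0x, act_act_inv]
    have hwx : ∀ t : ℕ, act ((b * b') ^ t) x = x := by
      intro t
      induction t with
      | zero => rw [pow_zero, act_one]
      | succ t ih => rw [pow_succ, act_mul, act_mul, hb'x, hbx, ih]
    have hzx : act z x = x := by rw [hz]; exact hwx m
    obtain ⟨a, ha⟩ : ∃ a, x a ≠ 0 := by
      by_contra hcon
      push Not at hcon
      exact hx0 (funext hcon)
    refine ⟨a, ?_⟩
    have h3 := congrFun hzx a
    rw [hzact] at h3
    have h4 : (ζ a - 1) * x a = 0 := by linear_combination h3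
    have h5 := (mul_eq_zero.1 h4).resolve_right ha
    linear_combination h5
  have hzero : ∀ a c, ζ a ≠ ζ' c → act g (Pi.single c 1) a = 0 := by
    intro a c hac
    have h3 : act z (act g (Pi.single c 1)) = act g (act z' (Pi.single c 1)) := by
      rw [hz', act_mul, act_mul, act_act_inv]
    have h4 := congrFun h3 a
    rw [hzact, hζ', act_smul, Pi.smul_apply, smul_eq_mul] at h4
    have h5 : (ζ a - ζ' c) * act g (Pi.single c 1) a = 0 := by linear_combination h4
    exact (mul_eq_zero.1 h5).resolve_left (sub_ne_zero.2 hac)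
  have hm1 : (-1 : F) ≠ 1 := by
    intro h; apply h2; linear_combination -h
  obtain ⟨ap, hap⟩ := hpos'
  obtain ⟨an, han⟩ := hneg
  have h0 : ∃ c c' : Fin n, c ≠ c' ∧ ζ' c = ζ' c' := by
    have e01 : (⟨0, by omega⟩ : Fin n) ≠ ⟨1, by omega⟩ := by simp [Fin.ext_iff]
    have e02 : (⟨0, by omega⟩ : Fin n) ≠ ⟨2, by omega⟩ := by simp [Fin.ext_iff]
    have e12 : (⟨1, by omega⟩ : Fin n) ≠ ⟨2, by omega⟩ := by simp [Fin.ext_iff]
    rcases hζ2' ⟨0, by omega⟩ with h | h <;> rcases hζ2' ⟨1, by omega⟩ with h' | h' <;>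
      rcases hζ2' ⟨2, by omega⟩ with h'' | h''
    · exact ⟨_, _, e01, h.trans h'.symm⟩
    · exact ⟨_, _, e01, h.trans h'.symm⟩
    · exact ⟨_, _, e02, h.trans h''.symm⟩
    · exact ⟨_, _, e12, h'.trans h''.symm⟩
    · exact ⟨_, _, e12, h'.trans h''.symm⟩
    · exact ⟨_, _, e02, h.trans h''.symm⟩
    · exact ⟨_, _, e01, h.trans h'.symm⟩
    · exact ⟨_, _, e01, h.trans h'.symm⟩
  obtain ⟨c, c', hcc', hs⟩ := h0
  apply hgm
  rcases hζ2' c with h | h
  · refine mono_of_zeros hF hG hstar hn hq hg hcc' (j := an) (hzero _ _ ?_) (hzero _ _ ?_)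
    · rw [han, h]; exact hm1
    · rw [han, ← hs, h]; exact hm1
  · refine mono_of_zeros hF hG hstar hn hq hg hcc' (j := ap) (hzero _ _ ?_) (hzero _ _ ?_)
    · rw [hap, h]; exact hm1.symm
    · rw [hap, ← hs, h]; exact hm1.symm

/-- (V): a vector supported on two coordinates whose inverse image has two zero coordinates. -/
theorem no_two_zeros (hn : 5 ≤ n) (hq : 3 ≤ q) {g : SU n F q} (hg : g ∈ X) (hgm : ¬ IsMono g)
    {i j k l : Fin n} (hij : i ≠ j) (hkl : k ≠ l) {u : Fin n → F} (hu : u ≠ 0)
    (hsupp : ∀ a, a ≠ i → a ≠ j → u a = 0) (hk : act g⁻¹ u k = 0) (hl : act g⁻¹ u l = 0) : False := by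
  obtain ⟨b, hb⟩ := exists_B (F := F) hF hij
  obtain ⟨b0, hb0⟩ := exists_B (F := F) hF hkl
  have hodd := odd_order hF hG hstar h2 hn hq hg hgm hij hkl hb hb0
  have h1 : act b u = -u := by
    funext a
    rw [hb, Pi.neg_apply]
    split_ifs with h
    · rfl
    · push Not at h
      rw [hsupp a h.1 h.2, neg_zero]
  have h3 : act b0 (act g⁻¹ u) = act g⁻¹ u := by
    funext a
    rw [hb0]
    split_ifs with h
    · rcases h with rfl | rfl
      · rw [hk, neg_zero]
      · rw [hl, neg_zero]
    · rfl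
  have h4 : act (b * (g * b0 * g⁻¹)) u = -u := by
    rw [act_mul, act_mul, act_mul, h3, act_act_inv, h1]
  have hneg : ∀ h : SU n F q, act h (-u) = -act h u := by
    intro h
    rw [show -u = (-1 : F) • u by simp, act_smul, neg_one_smul]
  have h5 : ∀ t : ℕ, act ((b * (g * b0 * g⁻¹)) ^ t) u = (-1 : F) ^ t • u := by
    intro t
    induction t with
    | zero => rw [pow_zero, pow_zero, act_one, one_smul]
    | succ t ih => rw [pow_succ, act_mul, h4, hneg, ih, pow_succ, mul_smul, neg_one_smul, smul_neg]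
  have h6 := h5 (orderOf (b * (g * b0 * g⁻¹)))
  rw [pow_orderOf_eq_one, act_one, hodd.neg_one_pow, neg_one_smul] at h6
  apply hu
  have h7 : (2 : F) • u = 0 := by
    rw [two_smul]
    conv_lhs => rw [h6]
    conv_lhs => arg 2; rw [h6, neg_neg]
    exact neg_add_cancel u
  exact (smul_eq_zero.1 h7).resolve_left h2

/-- (C): conjugating involution. -/
theorem exists_conj (hn : 5 ≤ n) (hq : 3 ≤ q) {g b b0 : SU n F q} (hg : g ∈ X) (hgm : ¬ IsMono g)
    {i j k l : Fin n} (hij : i ≠ j) (hkl : k ≠ l) (hb : IsB b i j) (hb0 : IsB b0 k l) :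
    ∃ c ∈ X, c * c = 1 ∧ c * b * c = g * b0 * g⁻¹ ∧ IsMono (c * g) ∧
      ∃ v ∈ X, ¬ IsMono v ∧ c = v⁻¹ * b * v := by
  classical
  obtain ⟨b', hb'⟩ : ∃ b', b' = g * b0 * g⁻¹ := ⟨_, rfl⟩
  have hodd := odd_order hF hG hstar h2 hn hq hg hgm hij hkl hb hb0
  rw [← hb'] at hodd ⊢
  have hbb := hb.mul_self
  have hbb' : b' * b' = 1 := by
    rw [hb']
    have h3 := hb0.mul_self
    calc g * b0 * g⁻¹ * (g * b0 * g⁻¹) = g * (b0 * b0) * g⁻¹ := by group
      _ = 1 := by rw [h3]; group
  have hbX : b ∈ X := hG b hb.isDiag.isMono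
  have hb0X : b0 ∈ X := hG b0 hb0.isDiag.isMono
  have hb'X : b' ∈ X := by rw [hb']; exact X.mul_mem (X.mul_mem hg hb0X) (X.inv_mem hg)
  have hwX : b * b' ∈ X := X.mul_mem hbX hb'X
  obtain ⟨m, hm⟩ := hodd
  have hpow := pow_orderOf_eq_one (b * b')
  -- `2 s = m + 1` modulo the order
  obtain ⟨s, hs⟩ : ∃ s, (b * b') ^ (2 * s) = (b * b') ^ (m + 1) := by
    rcases Nat.even_or_odd' (m + 1) with ⟨s, hs | hs⟩
    · exact ⟨s, by rw [hs]⟩
    · refine ⟨s + m + 1, ?_⟩
      have h3 : 2 * (s + m + 1) = (m + 1) + orderOf (b * b') := by rw [hm]; omega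
      rw [h3, pow_add, hpow, mul_one]
  obtain ⟨v, hv⟩ : ∃ v, v = (b * b') ^ s := ⟨_, rfl⟩
  have hvX : v ∈ X := by rw [hv]; exact X.pow_mem hwX s
  have hc0 : v⁻¹ * b * v = b * (b * b') ^ (m + 1) := by
    rw [← hs, hv, ← dih_key hbb hbb', two_mul, pow_add, mul_assoc]
  obtain ⟨c, hc⟩ : ∃ c, c = v⁻¹ * b * v := ⟨_, rfl⟩
  have hcc : c * c = 1 := by
    rw [hc]
    calc v⁻¹ * b * v * (v⁻¹ * b * v) = v⁻¹ * (b * b) * v := by group
      _ = 1 := by rw [hbb]; group
  have hcbc : c * b * c = b' := by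
    rw [hc, hc0]
    have h3 : b * (b * b') ^ (m + 1) * b * (b * (b * b') ^ (m + 1)) =
        b * ((b * b') ^ (m + 1) * (b * b) * (b * b') ^ (m + 1)) := by group
    have h4 : m + 1 + (m + 1) = orderOf (b * b') + 1 := by rw [hm]; omega
    rw [h3, hbb, mul_one, ← pow_add, h4, pow_add, hpow, pow_one, one_mul, ← mul_assoc, hbb, one_mul]
  have hvm : ¬ IsMono v := by
    intro hvm
    have hcm : IsMono c := by
      rw [hc]; exact IsMono.mul (IsMono.mul (IsMono.inv hvm) hb.isDiag.isMono) hvm
    have hb'm : IsMono b' := by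
      rw [← hcbc]; exact IsMono.mul (IsMono.mul hcm hb.isDiag.isMono) hcm
    apply hgm
    rw [← isMono_inv_iff]
    refine mono_of_conj hF hG hstar h2 hn hq (X.inv_mem hg) hkl hb0 ?_
    rw [inv_inv, ← hb']
    exact hb'm
  have hcX : c ∈ X := by
    rw [hc]; exact X.mul_mem (X.mul_mem (X.inv_mem hvX) hbX) hvX
  refine ⟨c, hcX, hcc, hcbc, ?_, v, hvX, hvm, hc⟩
  refine mono_of_conj hF hG hstar h2 hn hq (X.mul_mem hcX hg) hij hb ?_
  have hci : c⁻¹ = c := inv_eq_of_mul_eq_one_left hcc
  have h3 : (c * g)⁻¹ * b * (c * g) = g⁻¹ * (c * b * c) * g := by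
    rw [mul_inv_rev, hci]; group
  have h4 : (c * g)⁻¹ * b * (c * g) = b0 := by
    rw [h3, hcbc, hb']; group
  rw [h4]
  exact hb0.isDiag.isMono

/-- the product of two of the conjugating involutions has odd order, if it is monomial and not `1`. -/
theorem odd_prod (hn : 6 ≤ n) (hq : 3 ≤ q) {b v₁ v₂ : SU n F q} (hv₁ : v₁ ∈ X) (hv₂ : v₂ ∈ X)
    (hvm : ¬ IsMono v₁) {i j : Fin n} (hij : i ≠ j) (hb : IsB b i j)
    (hy : IsMono (v₁⁻¹ * b * v₁ * (v₂⁻¹ * b * v₂))) (hy1 : v₁⁻¹ * b * v₁ * (v₂⁻¹ * b * v₂) ≠ 1) :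
    Odd (orderOf (v₁⁻¹ * b * v₁ * (v₂⁻¹ * b * v₂))) := by
  classical
  obtain ⟨y, hyd⟩ : ∃ y, y = v₁⁻¹ * b * v₁ * (v₂⁻¹ * b * v₂) := ⟨_, rfl⟩
  rw [← hyd] at hy hy1 ⊢
  obtain ⟨h, hh⟩ : ∃ h, h = v₁ * v₂⁻¹ := ⟨_, rfl⟩
  have hhX : h ∈ X := by rw [hh]; exact X.mul_mem hv₁ (X.inv_mem hv₂)
  have hyh : y = v₁⁻¹ * (b * (h * b * h⁻¹)) * v₁ := by rw [hyd, hh]; group
  by_cases hhm : IsMono h
  · exfalso
    obtain ⟨σ, d, hd0, hd⟩ := IsMono.exists_perm hhm
    have hb' : IsB (h * b * h⁻¹) (σ i) (σ j) := hb.conj_perm hd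
    have hy2 : ∃ k, act y (Pi.single k 1) ≠ Pi.single k 1 := by
      by_contra hcon
      push Not at hcon
      apply hy1
      apply ext_act
      intro x
      funext a
      have h3 := act_perm_apply (g := y) (σ := Equiv.refl _) (d := fun _ => 1)
        (fun j => by rw [hcon j, one_smul]; rfl) x a
      rw [act_one]
      simpa using h3
    obtain ⟨k, hk⟩ := hy2
    obtain ⟨m, γ, hm⟩ := hy k
    obtain ⟨m', hm', hmm'⟩ : ∃ m', k ≠ m' ∧ (m = k ∨ m = m') := by
      by_cases hmk : m = k
      · obtain ⟨m', hm'⟩ := EvenFrame.exists_notMem_of_card_lt (s := ({k} : Finset (Fin n))) (n := n)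
          (by rw [Finset.card_singleton]; omega)
        exact ⟨m', fun h => hm' (by rw [h]; exact Finset.mem_singleton_self _), Or.inl hmk⟩
      · exact ⟨m, fun h => hmk h.symm, Or.inr rfl⟩
    -- two coordinates where the conjugate is trivial
    obtain ⟨a, ha⟩ := EvenFrame.exists_notMem_of_card_lt (s := ({i, j, σ i, σ j} : Finset (Fin n)))
      (n := n) (lt_of_le_of_lt Finset.card_le_four (by omega))
    obtain ⟨a', ha'⟩ := EvenFrame.exists_notMem_of_card_lt (s := insert a ({i, j, σ i, σ j} : Finset (Fin n)))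
      (n := n) (lt_of_le_of_lt ((Finset.card_insert_le _ _).trans
        (Nat.add_le_add_right Finset.card_le_four 1)) (by omega))
    have hone : ∀ a, a ∉ ({i, j, σ i, σ j} : Finset (Fin n)) → ∀ x : Fin n → F,
        act (b * (h * b * h⁻¹)) x a = x a := by
      intro a ha x
      simp only [Finset.mem_insert, Finset.mem_singleton, not_or] at ha
      rw [act_mul, hb, hb', if_neg (by tauto), if_neg (by tauto)]
    have hu : act v₁ (act y (Pi.single k 1) - Pi.single k 1) =
        act (b * (h * b * h⁻¹)) (act v₁ (Pi.single k 1)) - act v₁ (Pi.single k 1) := by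
      rw [act_sub, ← act_mul, ← act_mul, hyh]
      congr 2
      group
    have hzero : ∀ a, a ∉ ({i, j, σ i, σ j} : Finset (Fin n)) →
        act v₁ (act y (Pi.single k 1) - Pi.single k 1) a = 0 := by
      intro a ha
      rw [hu, Pi.sub_apply, hone a ha, sub_self]
    have ha'2 : a' ∉ ({i, j, σ i, σ j} : Finset (Fin n)) := fun h => ha' (Finset.mem_insert_of_mem h)
    have haa' : a ≠ a' := fun h => ha' (by rw [h]; exact Finset.mem_insert_self _ _)
    refine no_two_zeros hF hG hstar h2 (by omega) hq (X.inv_mem hv₁)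
      (fun h => hvm (isMono_inv_iff.1 h)) hm' haa' (sub_ne_zero.2 hk) ?_ ?_ ?_
    · intro c hck hcm
      rw [hm, Pi.sub_apply, Pi.smul_apply, Pi.single_eq_of_ne hck, smul_eq_mul]
      rcases hmm' with h | h
      · rw [h, Pi.single_eq_of_ne hck]; ring
      · rw [h, Pi.single_eq_of_ne hcm]; ring
    · rw [inv_inv]; exact hzero a ha
    · rw [inv_inv]; exact hzero a' ha'2
  · have h1 := odd_order hF hG hstar h2 (by omega) hq hhX hhm hij hij hb hb
    have h3 : orderOf y = orderOf (b * (h * b * h⁻¹)) := by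
      have h4 : y = MulAut.conj v₁⁻¹ (b * (h * b * h⁻¹)) := by
        rw [MulAut.conj_apply, inv_inv, hyh]
      rw [h4, MulEquiv.orderOf_eq]
    rw [h3]
    exact h1

end

end Cfsg.Agent.H876.OddFrame
end

-- part: H876/MonoOdd
section
/-!
# Monomial elements of odd order: the number of moved coordinate vectors
-/

set_option autoImplicit false

namespace Cfsg.Agent.H876.MonoBasic

open Cfsg Cfsg.Agent.LieClassical.HermBasic Cfsg.Agent.LieClassical.HermSiegel Cfsg.Agent.H927

variable {F : Type*} [Field F] {n q : ℕ}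

/-- the support of a fixed vector is a union of cycles. -/
theorem pow_apply_ne_zero {g : SU n F q} {σ : Equiv.Perm (Fin n)} {d : Fin n → F} (hd0 : ∀ j, d j ≠ 0)
    (hd : ∀ j, act g (Pi.single j 1) = d j • Pi.single (σ j) 1) {x : Fin n → F} (hx : act g x = x)
    {j : Fin n} (hj : x j ≠ 0) (k : ℕ) : x ((σ ^ k) j) ≠ 0 := by
  induction k with
  | zero => simpa using hj
  | succ k ih =>
    rw [pow_succ', Equiv.Perm.mul_apply]
    have h1 : x (σ ((σ ^ k) j)) = d ((σ ^ k) j) * x ((σ ^ k) j) := by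
      rw [← act_perm_apply hd, hx]
    rw [h1]
    exact mul_ne_zero (hd0 _) ih

/-- A monomial element of odd order acting trivially on the vectors satisfying `r` linear conditions moves at
most `3 r / 2` coordinate vectors. -/
theorem card_moved_le_odd {g : SU n F q} (hg : IsMono g) (hodd : Odd (orderOf g)) (hpos : 0 < orderOf g)
    {r : ℕ} (ℓ : Fin r → ((Fin n → F) →ₗ[F] F))
    (hfix : ∀ x, (∀ k, ℓ k x = 0) → act g x = x) : 2 * (moved g).card ≤ 3 * r := by
  classical
  obtain ⟨σ, d, hd0, hd⟩ := IsMono.exists_perm hg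
  have hmv : ∀ j, j ∈ moved g → σ j = j → d j ≠ 1 := by
    intro j hj hσ h1
    rw [mem_moved] at hj
    apply hj
    rw [hd, hσ, h1, one_smul]
  have hmv' : ∀ j, σ j ≠ j → j ∈ moved g := by
    intro j hj
    rw [mem_moved, hd]
    intro h1
    have h2 := congrFun h1 j
    rw [Pi.smul_apply, Pi.single_eq_same, Pi.single_eq_of_ne (Ne.symm hj), smul_zero] at h2
    exact zero_ne_one h2
  -- a power of the element
  have hpow : ∀ (k : ℕ) (j : Fin n), ∃ c : F, c ≠ 0 ∧
      act (g ^ k) (Pi.single j 1) = c • Pi.single ((σ ^ k) j) 1 := by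
    intro k
    induction k with
    | zero => intro j; exact ⟨1, one_ne_zero, by rw [pow_zero, act_one, one_smul]; rfl⟩
    | succ k ih =>
      intro j
      obtain ⟨c, hc0, hc⟩ := ih (σ j)
      refine ⟨d j * c, mul_ne_zero (hd0 j) hc0, ?_⟩
      rw [pow_succ, act_mul, hd, act_smul, hc, smul_smul, pow_succ, Equiv.Perm.mul_apply]
  have hσN : ∀ j, (σ ^ orderOf g) j = j := by
    intro j
    obtain ⟨c, hc0, hc⟩ := hpow (orderOf g) j
    rw [pow_orderOf_eq_one, act_one] at hc
    by_contra hne
    have h2 := congrFun hc j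
    rw [Pi.smul_apply, Pi.single_eq_same, Pi.single_eq_of_ne (Ne.symm hne), smul_zero] at h2
    exact one_ne_zero h2
  have h2cyc : ∀ j, σ (σ j) = j → σ j = j := by
    intro j hj
    obtain ⟨m, hm⟩ := hodd
    have h1 : ∀ m : ℕ, (σ ^ (2 * m + 1)) j = σ j := by
      intro m
      induction m with
      | zero => simp
      | succ m ih =>
        rw [show 2 * (m + 1) + 1 = (2 * m + 1) + 2 by ring, pow_add, Equiv.Perm.mul_apply, pow_two,
          Equiv.Perm.mul_apply, hj, ih]
    have h3 := hσN j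
    rw [hm, h1 m] at h3
    exact h3
  -- cycle minima
  let A : Finset (Fin n) := Finset.univ.filter fun j => σ j ≠ j ∧ ∀ k : ℕ, j ≤ (σ ^ k) j
  have hA : ∀ j, j ∈ A ↔ σ j ≠ j ∧ ∀ k : ℕ, j ≤ (σ ^ k) j := fun j => by simp [A]
  have hAm : A ⊆ moved g := fun j hj => hmv' j ((hA j).1 hj).1
  let T : Finset (Fin n) := moved g \ A
  have hT : T.card ≤ r := by
    by_contra hlt
    push Not at hlt
    obtain ⟨x, hx0, hxS, hxl⟩ := exists_supported T hlt ℓ
    have hgx := hfix x hxl
    apply hx0
    funext j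
    by_contra hxj
    have hjT : j ∈ T := by by_contra h; exact hxj (hxS j h)
    have hjm : j ∈ moved g := (Finset.mem_sdiff.1 hjT).1
    by_cases hσj : σ j = j
    · have h1 : x (σ j) = d j * x j := by rw [← act_perm_apply hd, hgx]
      rw [hσj] at h1
      have h3 : (d j - 1) * x j = 0 := by linear_combination -h1
      rcases mul_eq_zero.1 h3 with h4 | h4
      · exact hmv j hjm hσj (by linear_combination h4)
      · exact hxj h4
    · obtain ⟨a, ha, hmin⟩ := Finset.exists_min_image
        (Finset.univ.filter fun i => ∃ k : ℕ, (σ ^ k) j = i) (fun i : Fin n => i)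
        ⟨j, Finset.mem_filter.2 ⟨Finset.mem_univ _, 0, rfl⟩⟩
      obtain ⟨k, hk⟩ := (Finset.mem_filter.1 ha).2
      have hxa : x a ≠ 0 := by rw [← hk]; exact pow_apply_ne_zero hd0 hd hgx hxj k
      have haA : a ∈ A := by
        rw [hA]
        refine ⟨?_, fun k' => ?_⟩
        · rw [← hk]
          intro h
          apply hσj
          have h1 : (σ ^ k) (σ j) = (σ ^ k) j := by
            rw [← Equiv.Perm.mul_apply, ← pow_succ, pow_succ', Equiv.Perm.mul_apply, h]
          exact (σ ^ k).injective h1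
        · apply hmin
          rw [Finset.mem_filter]
          exact ⟨Finset.mem_univ _, k' + k, by rw [pow_add, Equiv.Perm.mul_apply, hk]⟩
      apply hxa
      apply hxS
      intro h
      exact (Finset.mem_sdiff.1 h).2 haA
  have hback : ∀ a, ∃ k : ℕ, (σ ^ k) (σ a) = a := by
    intro a
    refine ⟨orderOf g - 1, ?_⟩
    rw [← Equiv.Perm.mul_apply, ← pow_succ, Nat.sub_add_cancel hpos, hσN]
  have hback2 : ∀ a, ∃ k : ℕ, (σ ^ k) (σ (σ a)) = a := by
    intro a
    obtain ⟨k, hk⟩ := hback (σ a)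
    obtain ⟨k', hk'⟩ := hback a
    exact ⟨k' + k, by rw [pow_add, Equiv.Perm.mul_apply, hk, hk']⟩
  have hσne : ∀ a, σ a ≠ a → σ (σ a) ≠ σ a := fun a ha h => ha (σ.injective h)
  have hn1 : ∀ a ∈ A, σ a ∉ A := by
    intro a ha h
    rw [hA] at ha h
    obtain ⟨k, hk⟩ := hback a
    have h1 := h.2 k
    rw [hk] at h1
    have h2 := ha.2 1
    rw [pow_one] at h2
    exact ha.1 (le_antisymm h1 h2)
  have hn2 : ∀ a ∈ A, σ (σ a) ∉ A := by
    intro a ha h
    rw [hA] at ha h
    obtain ⟨k, hk⟩ := hback2 a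
    have h1 := h.2 k
    rw [hk] at h1
    have h2 := ha.2 2
    rw [pow_two, Equiv.Perm.mul_apply] at h2
    exact ha.1 (h2cyc a (le_antisymm h1 h2))
  have hsub : A.image σ ∪ A.image (fun a => σ (σ a)) ⊆ T := by
    intro b hb
    rw [Finset.mem_union, Finset.mem_image, Finset.mem_image] at hb
    rcases hb with ⟨a, ha, rfl⟩ | ⟨a, ha, rfl⟩
    · exact Finset.mem_sdiff.2 ⟨hmv' _ (hσne a ((hA a).1 ha).1), hn1 a ha⟩
    · exact Finset.mem_sdiff.2 ⟨hmv' _ (hσne _ (hσne a ((hA a).1 ha).1)), hn2 a ha⟩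
  have hdis : Disjoint (A.image σ) (A.image (fun a => σ (σ a))) := by
    rw [Finset.disjoint_left]
    intro b hb hb'
    rw [Finset.mem_image] at hb hb'
    obtain ⟨a, ha, rfl⟩ := hb
    obtain ⟨a', ha', h⟩ := hb'
    have h1 : σ a' = a := σ.injective h
    exact hn1 a' ha' (h1 ▸ ha)
  have h1 := Finset.card_le_card hsub
  rw [Finset.card_union_of_disjoint hdis, Finset.card_image_of_injective _ σ.injective,
    Finset.card_image_of_injective _ (fun a b h => σ.injective (σ.injective h))] at h1
  have h2 : T.card + A.card = (moved g).card := Finset.card_sdiff_add_card_eq_card hAm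
  omega

end Cfsg.Agent.H876.MonoBasic
end

-- part: H876/OddFinal
section
/-!
# Overgroups of the monomial group of `SU_n(q)`, `q` odd, `n ≥ 8`
-/

set_option autoImplicit false

namespace Cfsg.Agent.H876.OddFrame

open Cfsg Cfsg.Agent.LieClassical.HermBasic Cfsg.Agent.LieClassical.HermSiegel Cfsg.Agent.H927
open Cfsg.Agent.H876.MonoBasic

variable {F : Type*} [Field F] {n q : ℕ}

theorem exists_not_fixed {y : SU n F q} (hy1 : y ≠ 1) : ∃ k, act y (Pi.single k 1) ≠ Pi.single k 1 := by
  by_contra hcon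
  push Not at hcon
  apply hy1
  apply ext_act
  intro x
  funext a
  have h3 := act_perm_apply (g := y) (σ := Equiv.refl _) (d := fun _ => 1)
    (fun j => by rw [hcon j, one_smul]; rfl) x a
  rw [act_one]
  simpa using h3

variable [Fintype F] (hF : Fintype.card F = q ^ 2) {X : Subgroup (SU n F q)}
include hF

theorem eq_top_odd (hG : ∀ g : SU n F q, IsMono g → g ∈ X) (h2 : (2 : F) ≠ 0) (hn : 8 ≤ n) (hq : 3 ≤ q)
    (hX : ∃ g ∈ X, ¬ IsMono g) : X = ⊤ := by
  classical
  by_contra htop
  have hstar : ∀ y ∈ X, ∀ (k : Fin n) (c : F), act y (Pi.single k 1) = c • Pi.single k 1 → IsMono y := by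
    intro y hy k c hk
    by_contra hny
    exact htop (eq_top_of_fix hF hG (by omega) hq hy hny hk)
  obtain ⟨g, hg, hgm⟩ := hX
  have i0 : Fin n := ⟨0, by omega⟩
  obtain ⟨p0, hp0⟩ : ∃ p : Fin n, p = ⟨0, by omega⟩ := ⟨_, rfl⟩
  obtain ⟨p1, hp1⟩ : ∃ p : Fin n, p = ⟨1, by omega⟩ := ⟨_, rfl⟩
  obtain ⟨p2, hp2⟩ : ∃ p : Fin n, p = ⟨2, by omega⟩ := ⟨_, rfl⟩
  have h01 : p0 ≠ p1 := by rw [hp0, hp1]; simp [Fin.ext_iff]
  have h02 : p0 ≠ p2 := by rw [hp0, hp2]; simp [Fin.ext_iff]
  have h12 : p1 ≠ p2 := by rw [hp1, hp2]; simp [Fin.ext_iff]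
  obtain ⟨b, hb⟩ := exists_B (F := F) hF h01
  obtain ⟨b', hb'⟩ := exists_B (F := F) hF h02
  obtain ⟨c₁, hc₁X, hcc₁, hcb₁, hcm₁, v₁, hv₁X, hvm₁, hv₁⟩ :=
    exists_conj hF hG hstar h2 (by omega) hq hg hgm h01 h01 hb hb
  obtain ⟨c₂, hc₂X, hcc₂, hcb₂, hcm₂, v₂, hv₂X, hvm₂, hv₂⟩ :=
    exists_conj hF hG hstar h2 (by omega) hq hg hgm h01 h02 hb hb'
  have hci₁ : c₁⁻¹ = c₁ := inv_eq_of_mul_eq_one_left hcc₁
  have hci₂ : c₂⁻¹ = c₂ := inv_eq_of_mul_eq_one_left hcc₂
  obtain ⟨y, hy⟩ : ∃ y, y = c₁ * c₂ := ⟨_, rfl⟩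
  obtain ⟨y', hy'⟩ : ∃ y', y' = g⁻¹ * y * g := ⟨_, rfl⟩
  have hym : IsMono y := by
    have h3 : y = (c₁ * g) * (c₂ * g)⁻¹ := by rw [hy, mul_inv_rev, hci₂]; group
    rw [h3]; exact IsMono.mul hcm₁ (IsMono.inv hcm₂)
  have hym' : IsMono y' := by
    have h3 : y' = (c₁ * g)⁻¹ * (c₂ * g) := by rw [hy', hy, mul_inv_rev, hci₁]; group
    rw [h3]; exact IsMono.mul (IsMono.inv hcm₁) hcm₂
  have hy1 : y ≠ 1 := by
    intro h
    have h3 : c₁ = c₂ := by
      have : c₁ * c₂ = 1 := by rw [← hy, h]
      rw [← hci₂]; exact eq_inv_of_mul_eq_one_left this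
    have h4 : g * b * g⁻¹ = g * b' * g⁻¹ := by rw [← hcb₁, ← hcb₂, h3]
    have h5 : b = b' := by simpa using h4
    have h6 := congrFun (congrArg (fun b => act b (Pi.single p1 1)) h5) p1
    rw [hb, hb', if_pos (Or.inr rfl), if_neg (by
      push Not; exact ⟨h01.symm, h12⟩), Pi.single_eq_same] at h6
    apply h2
    linear_combination -h6
  have hyodd : Odd (orderOf y) := by
    have h3 : y = v₁⁻¹ * b * v₁ * (v₂⁻¹ * b * v₂) := by rw [hy, hv₁, hv₂]
    rw [h3]
    rw [h3] at hym hy1
    exact odd_prod hF hG hstar h2 (by omega) hq hv₁X hv₂X hvm₁ h01 hb hym hy1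
  have hord : orderOf y' = orderOf y := by
    have h4 : y' = MulAut.conj g⁻¹ y := by
      rw [MulAut.conj_apply, inv_inv, hy']
    rw [h4, MulEquiv.orderOf_eq]
  have hbfix : ∀ x : Fin n → F, x p0 = 0 → x p1 = 0 → act b x = x := by
    intro x h0 h1
    funext l
    rw [hb]
    split_ifs with h
    · rcases h with rfl | rfl
      · rw [h0, neg_zero]
      · rw [h1, neg_zero]
    · rfl
  have hmoved := card_moved_le_odd hym' (by rw [hord]; exact hyodd) (orderOf_pos _) (r := 4)
    ![lin (v₂ * g) p0, lin (v₂ * g) p1, lin (v₁ * g) p0, lin (v₁ * g) p1] (by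
      intro x hx
      have e1 : act (v₂ * g) x p0 = 0 := hx 0
      have e2 : act (v₂ * g) x p1 = 0 := hx 1
      have e3 : act (v₁ * g) x p0 = 0 := hx 2
      have e4 : act (v₁ * g) x p1 = 0 := hx 3
      have f2 := hbfix _ e1 e2
      have f1 := hbfix _ e3 e4
      rw [act_mul] at f1 f2
      have g2 : act c₂ (act g x) = act g x := by
        rw [hv₂, act_mul, act_mul, f2, act_inv_act]
      have g1 : act c₁ (act g x) = act g x := by
        rw [hv₁, act_mul, act_mul, f1, act_inv_act]
      rw [hy', act_mul, act_mul, hy, act_mul, g2, g1, act_inv_act])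
  obtain ⟨k, l, hkl, hk, hl⟩ := exists_two_not_moved (g := y') (by omega)
  obtain ⟨i, hi⟩ := exists_not_fixed hy1
  obtain ⟨m, γ, hm⟩ := hym i
  obtain ⟨m', hm', hmm'⟩ : ∃ m', i ≠ m' ∧ (m = i ∨ m = m') := by
    by_cases hmk : m = i
    · obtain ⟨m', hm'⟩ := EvenFrame.exists_notMem_of_card_lt (s := ({i} : Finset (Fin n))) (n := n)
        (by rw [Finset.card_singleton]; omega)
      exact ⟨m', fun h => hm' (by rw [h]; exact Finset.mem_singleton_self _), Or.inl hmk⟩
    · exact ⟨m, fun h => hmk h.symm, Or.inr rfl⟩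
  have hyg : ∀ x, act y' x = x → act y (act g x) = act g x := by
    intro x hx
    rw [hy', act_mul, act_mul] at hx
    have h3 := congrArg (act g) hx
    rwa [act_act_inv] at h3
  have hzero : ∀ k, act y' (Pi.single k 1) = Pi.single k 1 →
      act g⁻¹ (act y (Pi.single i 1) - Pi.single i 1) k = 0 := by
    intro k hk
    have h3 := hyg _ hk
    rw [← H927.herm_single_right hF (act g⁻¹ _) k, ← herm_act g, act_act_inv, herm_sub_left]
    conv_lhs => arg 1; rw [← h3]
    rw [herm_act, sub_self]
  refine no_two_zeros hF hG hstar h2 (by omega) hq hg hgm hm' hkl (sub_ne_zero.2 hi) ?_ (hzero k hk)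
    (hzero l hl)
  intro c hck hcm
  rw [hm, Pi.sub_apply, Pi.smul_apply, Pi.single_eq_of_ne hck, smul_eq_mul]
  rcases hmm' with h | h
  · rw [h, Pi.single_eq_of_ne hck]; ring
  · rw [h, Pi.single_eq_of_ne hcm]; ring

end Cfsg.Agent.H876.OddFrame
end
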